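import Groth.Agent.TensorExact.Ring
import Groth.Agent.PerfTri.Betti
import Groth.Agent.PCohD.StalkExt
import Groth.Agent.KFlat.StalkD
import Groth.Agent.DEq.KernelDiag
import Groth.Agent.QCoh.FiniteType
import Groth.Agent.QCohGen.Closed

/-!
# Exactness of `M ↦ H^p(M ⊗ F)` from a locally constant Betti number
-/

set_option autoImplicit false

universe u

open CategoryTheory CategoryTheory.Limits AlgebraicGeometry MonoidalCategory

set_option linter.style.haveILetI false

attribute [local instance] HasDerivedCategory.standard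

noncomputable section

namespace Groth.Agent.TensorExact.Sheaf

open Groth.Agent.KFlat Groth.Agent.KFlat.Pull Groth.Agent.TensorExact.Ring
open Groth.Agent.Props.QRank (fibreRank)

theorem isQisN_map {A B : Type*} [Category A] [Category B] [Abelian A] [Abelian B]
    (G : A ⥤ B) [G.Additive] [PreservesFiniteLimits G] [PreservesFiniteColimits G]
    {K L : CochainComplex A ℤ} (ψ : K ⟶ L) {n : ℤ} (h : DHA.PCohQis.IsQisN ψ n) :
    DHA.PCohQis.IsQisN ((G.mapHomologicalComplex (ComplexShape.up ℤ)).map ψ) n := by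
  refine ⟨fun i hi => ?_, ?_⟩
  · have := h.1 i hi
    exact (NatIso.isIso_map_iff (MapHomology.cxIso G i) ψ).2
      (inferInstanceAs (IsIso (G.map (HomologicalComplex.homologyMap ψ i))))
  · have := h.2
    change Epi ((G.mapHomologicalComplex _ ⋙ HomologicalComplex.homologyFunctor B _ n).map ψ)
    have : Epi (G.map (HomologicalComplex.homologyMap ψ n)) := G.map_epi _
    rw [← NatIso.naturality_2 (MapHomology.cxIso G n) ψ]
    simp only [Functor.comp_map, HomologicalComplex.homologyFunctor_map]
    exact @epi_comp _ _ _ _ _ _ inferInstance _ (@epi_comp _ _ _ _ _ _ this _ (show Epi ((MapHomology.cxIso G n).app L).inv from inferInstance))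

theorem flat_cokernel_of_iso {R : Type u} [CommRing R] {C : CochainComplex (ModuleCat.{u} R) ℤ}
    {i j : ℤ} {M : ModuleCat.{u} R} (e : cokernel (C.d i j) ≅ M) [Module.Flat R M] :
    Module.Flat R (C.X j ⧸ LinearMap.range (C.d i j).hom) :=
  Module.Flat.of_linearEquiv ((ModuleCat.cokernelIsoRangeQuotient _).symm ≪≫ e).toLinearEquiv

variable {X : Scheme.{u}}

/-- The cokernels of a strictly perfect complex have locally constant rank when the Betti number is
locally constant. -/
theorem isLocallyConstant_cokernel [∀ x : X, DCoh.HasLpull (X.fromSpecResidueField x)]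
    (F : CochainComplex X.Modules ℤ) (hF : DCoh.IsKFlat F) (E : DCoh.D X) (eF : DCoh.toD X F ≅ E)
    (V : X.Opens) (S : CochainComplex (V : Scheme.{u}).Modules ℤ) (hS : DCoh.IsStrictlyPerfect S) (i : ℤ)
    (α : DerivedCategory.Q.obj S ⟶ DerivedCategory.Q.obj ((DCoh.restrictCx V).obj F))
    (hα : LocalD.HQisN α (i - 1)) (hc : IsLocallyConstant (fun x : X => PerfD.betti E x i)) :
    IsLocallyConstant (fibreRank (cokernel (S.d (i - 1) i))) ∧
      IsLocallyConstant (fibreRank (cokernel (S.d i (i + 1)))) := by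
  haveI := PerfTri.Betti.isQuasicoherent_of_isFinLocFree (hS.2 (i + 1))
  have key : ∀ v : (V : Scheme.{u}), ∀ᶠ w in nhds v,
      fibreRank (cokernel (S.d (i - 1) i)) w = fibreRank (cokernel (S.d (i - 1) i)) v ∧
        fibreRank (cokernel (S.d i (i + 1))) w = fibreRank (cokernel (S.d i (i + 1))) v := fun v => by
    have hb : ∀ᶠ w in nhds v, PerfD.betti E (V.ι w) i = PerfD.betti E (V.ι v) i :=
      (hc.comp_continuous V.ι.continuous).eventually_eq v
    have hr := (Props.QRank.isLocallyConstant_fibreRank _ (hS.2 (i + 1))).eventually_eq v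
    filter_upwards [hb, hr, PerfTri.Betti.eventually_cokernel_le (S.d (i - 1) i) (hS.2 _) (hS.2 _) v,
      PerfTri.Betti.eventually_cokernel_le (S.d i (i + 1)) (hS.2 _) (hS.2 _) v] with w e₀ e₁ h₁ h₂
    have A := PerfTri.Betti.betti_add F hF E eF V S hS i α hα (V.ι v) v.2
    have B := PerfTri.Betti.betti_add F hF E eF V S hS i α hα (V.ι w) w.2
    have hv : (⟨V.ι v, v.2⟩ : (V : Scheme.{u})) = v := rfl
    have hw : (⟨V.ι w, w.2⟩ : (V : Scheme.{u})) = w := rfl
    rw [hv] at A
    rw [hw] at B
    omega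
  exact ⟨(IsLocallyConstant.iff_eventually_eq _).2 fun v => (key v).mono fun w h => h.1,
    (IsLocallyConstant.iff_eventually_eq _).2 fun v => (key v).mono fun w h => h.2⟩

theorem flat_stalk {Y : Scheme.{u}} [IsReduced Y] (M : Y.Modules) [M.IsQuasicoherent]
    (hM : ∀ W : Y.Opens, IsAffineOpen W → Module.Finite Γ(Y, W) Γ(M, W))
    (hc : IsLocallyConstant (fibreRank M)) (y : Y) :
    Module.Flat (Y.presheaf.stalk y) (M.presheaf.stalk y) :=
  have h := Props.QRank.isFinLocFree_of_isReduced M ((Groth.Agent.QCoh.isFiniteType_iff M).2 hM) hc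
  have := (Props.QProj.free_stalk M h y).1
  inferInstance

theorem flat_stalk_cokernel {Y : Scheme.{u}} [IsReduced Y] {A B : Y.Modules} (d : A ⟶ B)
    (hA : FlatMod.IsFinLocFree A) (hB : FlatMod.IsFinLocFree B)
    (hc : IsLocallyConstant (fibreRank (cokernel d))) (y : Y) :
    Module.Flat (Y.presheaf.stalk y) ((DerSch.stalkFunctor Y y).obj (cokernel d)) := by
  haveI := PerfTri.Betti.isQuasicoherent_of_isFinLocFree hA
  haveI := PerfTri.Betti.isQuasicoherent_of_isFinLocFree hB
  haveI : (cokernel d).IsQuasicoherent := Groth.Agent.QCoh.isQuasicoherent_cokernel d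
  exact flat_stalk _ (fun W hW => by
    have := Props.QProj.finitePresentation_sections B hB hW
    exact Module.Finite.of_surjective (CohDev.appLin (cokernel.π d) W)
      (Groth.Agent.QCoh.app_surjective_of_epi (cokernel.π d) hW)) hc y

/-- The functors computed by the two ends of a roof agree. -/
theorem nonempty_roofIso {B : Type*} [Category B] [Abelian B] {R : Type u} [CommRing R]
    (G : B ⥤ ModuleCat.{u} R) [G.Additive] [PreservesFiniteLimits G] [PreservesFiniteColimits G]
    {Q S F : CochainComplex B ℤ} (t : Q ⟶ S) (ψ : Q ⟶ F) (p : ℤ)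
    (ht : DHA.PCohQis.IsQisN t (p - 1)) (hψ : DHA.PCohQis.IsQisN ψ (p - 1))
    (hQ : DRing.KFlat.IsKFlat ((G.mapHomologicalComplex (ComplexShape.up ℤ)).obj Q))
    (hS : DRing.KFlat.IsKFlat ((G.mapHomologicalComplex (ComplexShape.up ℤ)).obj S))
    (hF : DRing.KFlat.IsKFlat ((G.mapHomologicalComplex (ComplexShape.up ℤ)).obj F))
    {C : CochainComplex (ModuleCat.{u} R) ℤ}
    (e : (G.mapHomologicalComplex (ComplexShape.up ℤ)).obj F ≅ C) :
    Nonempty (tH ((G.mapHomologicalComplex (ComplexShape.up ℤ)).obj S) p ≅ tH C p) := by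
  let GC := G.mapHomologicalComplex (ComplexShape.up ℤ)
  haveI := isIso_tHMap (p := p) (GC.map ψ) hQ hF (isQisN_map G ψ hψ) (by omega)
  haveI := isIso_tHMap (p := p) (GC.map t) hQ hS (isQisN_map G t ht) (by omega)
  exact ⟨(asIso (tHMap (p := p) (GC.map t))).symm ≪≫ asIso (tHMap (p := p) (GC.map ψ)) ≪≫
    NatIso.ofComponents (fun N => (HomologicalComplex.homologyFunctor _ _ p).mapIso
      (((tensorRight N).mapHomologicalComplex (ComplexShape.up ℤ)).mapIso e))
      (fun f => (tHMap (p := p) e.hom).naturality f)⟩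

/-- Goodness along a roof. -/
theorem good_of_roof {B : Type*} [Category B] [Abelian B] {R : Type u} [CommRing R]
    (G : B ⥤ ModuleCat.{u} R) [G.Additive] [PreservesFiniteLimits G] [PreservesFiniteColimits G]
    {Q S F : CochainComplex B ℤ} (t : Q ⟶ S) (ψ : Q ⟶ F) (p : ℤ)
    (ht : DHA.PCohQis.IsQisN t (p - 1)) (hψ : DHA.PCohQis.IsQisN ψ (p - 1))
    (hQ : DRing.KFlat.IsKFlat ((G.mapHomologicalComplex (ComplexShape.up ℤ)).obj Q))
    (hS : DRing.KFlat.IsKFlat ((G.mapHomologicalComplex (ComplexShape.up ℤ)).obj S))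
    (hF : DRing.KFlat.IsKFlat ((G.mapHomologicalComplex (ComplexShape.up ℤ)).obj F))
    (hfl : Module.Flat R (G.obj (S.X (p + 1))))
    (hc₁ : Module.Flat R (G.obj (cokernel (S.d (p - 1) p))))
    (hc₂ : Module.Flat R (G.obj (cokernel (S.d p (p + 1)))))
    {C : CochainComplex (ModuleCat.{u} R) ℤ}
    (e : (G.mapHomologicalComplex (ComplexShape.up ℤ)).obj F ≅ C) : Good C p := by
  let GC := G.mapHomologicalComplex (ComplexShape.up ℤ)
  obtain ⟨e'⟩ := nonempty_roofIso G t ψ p ht hψ hQ hS hF e
  haveI : Module.Flat R ((GC.obj S).X (p + 1)) := hfl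
  haveI := flat_cokernel_of_iso (C := GC.obj S) (PreservesCokernel.iso G (S.d (p - 1) p)).symm
  haveI := flat_cokernel_of_iso (C := GC.obj S) (PreservesCokernel.iso G (S.d p (p + 1))).symm
  exact good_of_natIso e' (good_of_flat _ _)

variable (V : X.Opens) (v : (V : Scheme.{u}))

/-- The inverse of the stalk map of an open immersion. -/
def invHom : (V : Scheme.{u}).presheaf.stalk v →+* X.presheaf.stalk (V.ι v) :=
  (RingEquiv.ofBijective (V.ι.stalkMap v).hom
    (ConcreteCategory.bijective_of_isIso (V.ι.stalkMap v))).symm.toRingHom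

instance : (ModuleCat.extendScalars.{u, u, u} (invHom V v)).IsEquivalence :=
  PCohD.StalkExt.isEquivalence_extend _ (RingEquiv.bijective _)

theorem invHom_comp : (invHom V v).comp (V.ι.stalkMap v).hom = RingHom.id _ :=
  RingHom.ext fun x => (RingEquiv.ofBijective (V.ι.stalkMap v).hom
    (ConcreteCategory.bijective_of_isIso (V.ι.stalkMap v))).symm_apply_apply x

/-- The stalk of a module on an open, over the ring of the ambient scheme. -/
def stV : (V : Scheme.{u}).Modules ⥤ ModuleCat.{u} (X.presheaf.stalk (V.ι v)) :=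
  DerSch.stalkFunctor (V : Scheme.{u}) v ⋙ ModuleCat.extendScalars.{u, u, u} (invHom V v)

instance : (stV V v).Additive := by unfold stV; infer_instance

instance : PreservesFiniteLimits (stV V v) := by unfold stV; infer_instance

instance : PreservesFiniteColimits (stV V v) := by unfold stV; infer_instance

/-- `stV` of a restriction is the stalk. -/
def stVIso : Scheme.Modules.restrictFunctor V.ι ⋙ stV V v ≅ DerSch.stalkFunctor X (V.ι v) :=
  (Functor.associator _ _ _).symm ≪≫
    Functor.isoWhiskerRight (PCohD.StalkExt.stRes V.ι v) _ ≪≫ Functor.associator _ _ _ ≪≫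
    Functor.isoWhiskerLeft _ ((ModuleCat.extendScalarsComp _ (invHom V v)).symm ≪≫
      eqToIso (by rw [invHom_comp]) ≪≫ ModuleCat.extendScalarsId _) ≪≫
    Functor.rightUnitor _

theorem flat_stV {M : (V : Scheme.{u}).Modules}
    (h : Module.Flat ((V : Scheme.{u}).presheaf.stalk v)
      ((DerSch.stalkFunctor (V : Scheme.{u}) v).obj M)) :
    Module.Flat (X.presheaf.stalk (V.ι v)) ((stV V v).obj M) := by
  letI := (invHom V v).toAlgebra
  exact Module.Flat.baseChange _ _ _

theorem isKFlat_stV {K : CochainComplex (V : Scheme.{u}).Modules ℤ} (hK : DCoh.IsKFlat K) :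
    DRing.KFlat.IsKFlat (((stV V v).mapHomologicalComplex (ComplexShape.up ℤ)).obj K) := by
  have h1 := BaseChange.isKFlat_extCx (invHom V v) ((StalkCx.isKFlat_iff_stalk K).1 hK v)
  let e : (BaseChange.extCx (invHom V v)).obj ((StalkCx.stCx v).obj K) ≅
      ((stV V v).mapHomologicalComplex (ComplexShape.up ℤ)).obj K :=
    HomologicalComplex.Hom.isoOfComponents (fun n => Iso.refl _)
      (fun i j _ => (Category.id_comp _).trans (Category.comp_id _).symm)
  exact isKFlat_of_iso_ring e h1

set_option maxHeartbeats 1600000 in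
/-- The stalk complexes of a K-flat complex with locally constant Betti number give exact functors. -/
theorem good_stalk [IsReduced X] [∀ x : X, DCoh.HasLpull (X.fromSpecResidueField x)]
    (F : CochainComplex X.Modules ℤ) (hF : DCoh.IsKFlat F) (E : DCoh.D X) (eF : DCoh.toD X F ≅ E)
    (p : ℤ) (hE : DCoh.IsPseudoCoherentD (p - 1) E)
    (hc : IsLocallyConstant (fun x : X => PerfD.betti E x p)) (z : X) :
    Good ((StalkCx.stCx z).obj F) p := by
  obtain ⟨V, hz, hV⟩ := hE z
  obtain ⟨S, α, hS, hiso, hepi⟩ := hV F ⟨eF⟩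
  obtain ⟨hc₁, hc₂⟩ := isLocallyConstant_cokernel F hF E eF V S hS p α ⟨hiso, hepi⟩ hc
  obtain ⟨Z, s, hs, φ, hφ⟩ := DerivedCategory.right_fac α
  let Q' := (resY (V : Scheme.{u})).obj Z
  let t : Q' ⟶ S := (resYπ (V : Scheme.{u})).app Z ≫ s
  let ψ : Q' ⟶ (DCoh.restrictCx V).obj F := (resYπ (V : Scheme.{u})).app Z ≫ φ
  have hsq : QuasiIso s := (DerivedCategory.isIso_Q_map_iff_quasiIso (C := (V : Scheme.{u}).Modules) s).1 hs
  have hπ := quasiIso_resYπ Z
  have ht : QuasiIso t := quasiIso_comp (hφ := hπ) (hφ' := hsq) ..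
  have hit : IsIso (DerivedCategory.Q.map t) :=
    (DerivedCategory.isIso_Q_map_iff_quasiIso (C := (V : Scheme.{u}).Modules) t).2 ht
  have hψ : DHA.PCohQis.IsQisN ψ (p - 1) := by
    rw [DHA.PCohAPI.isQisN_iff]
    have e : DerivedCategory.Q.map ψ = DerivedCategory.Q.map t ≫ α := by simp [ψ, t, hφ]
    rw [e]
    exact (LocalD.hQisN_of_isIso (DerivedCategory.Q.map t) (p - 1)).comp ⟨hiso, hepi⟩
  have ht' : DHA.PCohQis.IsQisN t (p - 1) := by
    rw [DHA.PCohAPI.isQisN_iff]
    exact LocalD.hQisN_of_isIso (DerivedCategory.Q.map t) (p - 1)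
  let v : (V : Scheme.{u}) := ⟨z, hz⟩
  haveI : IsReduced (V : Scheme.{u}) := isReduced_of_isOpenImmersion V.ι
  have hg := good_of_roof (stV V v) t ψ p ht' hψ
    (isKFlat_stV V v (isKFlat_resY Z))
    (isKFlat_stV V v (LocalD.isKFlat_of_isStrictlyPerfect hS))
    (isKFlat_stV V v (LocalD.isKFlat_restrict hF V))
    (flat_stV V v (LocalD.flat_of_isFinLocFree (hS.2 (p + 1)) v))
    (flat_stV V v (flat_stalk_cokernel _ (hS.2 _) (hS.2 _) hc₁ v))
    (flat_stV V v (flat_stalk_cokernel _ (hS.2 _) (hS.2 _) hc₂ v))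
    (C := (StalkCx.stCx (V.ι v)).obj F)
    (HomologicalComplex.Hom.isoOfComponents (fun n => (stVIso V v).app (F.X n))
      fun i j _ => ((stVIso V v).hom.naturality (F.d i j)).symm)
  exact hg

/-- Short exactness is detected on stalks. -/
theorem shortExact_of_stalk (S : ShortComplex X.Modules)
    (h : ∀ z : X, (S.map (DerSch.stalkFunctor X z)).ShortExact) : S.ShortExact := by
  refine { exact := ?_, mono_f := ?_, epi_g := ?_ }
  · rw [ShortComplex.exact_iff_isZero_homology]
    exact StalkCx.isZero_of_isZero_stalk fun z =>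
      ((ShortComplex.exact_iff_isZero_homology _).1 (h z).exact).of_iso
        (S.mapHomologyIso (DerSch.stalkFunctor X z)).symm
  · exact StalkTensor.mono_of_stalk_injective _ fun z => (h z).moduleCat_injective_f
  · refine Preadditive.epi_of_isZero_cokernel _ (StalkCx.isZero_of_isZero_stalk fun z => ?_)
    have := (h z).epi_g
    exact (isZero_cokernel_of_epi (S.map (DerSch.stalkFunctor X z)).g).of_iso
      (PreservesCokernel.iso (DerSch.stalkFunctor X z) S.g)

/-- `M ↦ M ⊗ F` on complexes, termwise. -/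
def termCx (F : CochainComplex X.Modules ℤ) : X.Modules ⥤ CochainComplex X.Modules ℤ where
  obj M := (((DCoh.tensorBi (X := X)).flip.obj M).mapHomologicalComplex (ComplexShape.up ℤ)).obj F
  map f := (NatTrans.mapHomologicalComplex ((DCoh.tensorBi (X := X)).flip.map f)
    (ComplexShape.up ℤ)).app F
  map_id M := by ext n : 1; simp
  map_comp f g := by ext n : 1; simp

/-- The total complex against a single module is the termwise tensor product. -/
def singleTensorIso (F : CochainComplex X.Modules ℤ) :
    CochainComplex.singleFunctor X.Modules 0 ⋙ (DCoh.tensorCx (X := X)).obj F ≅ termCx F :=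
  (NatIso.ofComponents
    (fun M => (totSingleCxIso (DCoh.tensorBi (X := X)) M).app F) fun {M N} f => by
      ext n : 1
      simp only [HomologicalComplex.comp_f]
      change ((DCoh.tensorBi (X := X)).obj (F.X n)).map f ≫ _ = _
      simp only [totSingleCxIso, Iso.app_hom, NatIso.ofComponents_hom_app,
        totSingleIso]
      refine Eq.trans ?_ ((Category.assoc _ _ _).trans (congrArg (_ ≫ ·)
        (totι_map_right ((HomologicalComplex.single X.Modules (ComplexShape.up ℤ) 0).map f) n 0 n
          (add_zero n)))).symm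
      change ((DCoh.tensorBi (X := X)).obj (F.X n)).map f ≫
        ((DCoh.tensorBi (X := X)).obj (F.X n)).map
          (HomologicalComplex.singleObjXSelf (ComplexShape.up ℤ) 0 N).inv ≫
        totι (DCoh.tensorBi (X := X)) F ((HomologicalComplex.single X.Modules (ComplexShape.up ℤ) 0).obj N) n 0 n
          (add_zero n) = _
      refine (Category.assoc _ _ _).symm.trans (Eq.trans (congrArg (· ≫ _) ?_) (Category.assoc _ _ _))
      refine ((Functor.map_comp _ _ _).symm.trans (congrArg _ ?_)).trans (Functor.map_comp _ _ _)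
      rw [HomologicalComplex.single_map_f_self, ← Category.assoc, ← Category.assoc]
      simp [HomologicalComplex.singleObjXSelf]).symm

/-- The stalk of the termwise tensor product. -/
def stTermIso (F : CochainComplex X.Modules ℤ) (z : X) :
    termCx F ⋙ StalkCx.stCx z ≅ DerSch.stalkFunctor X z ⋙ tCx ((StalkCx.stCx z).obj F) :=
  NatIso.ofComponents
    (fun M => HomologicalComplex.Hom.isoOfComponents (fun n => StalkCx.stIso z (F.X n) M)
      fun i j _ => (StalkCx.stIso_left z (F.d i j) M).symm)
    fun f => by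
      ext n : 1
      exact StalkCx.stIso_right z (F.X n) f

instance (F : CochainComplex X.Modules ℤ) : (termCx F).Additive where
  map_add {M N f g} := by ext n : 1; exact ((DCoh.tensorBi (X := X)).obj (F.X n)).map_add

/-- A functor between abelian categories mapping short exact sequences to short exact sequences
preserves finite limits and colimits. -/
theorem preservesFinite_of_shortExact {A B : Type*} [Category A] [Category B] [Abelian A] [Abelian B]
    (G : A ⥤ B) [G.Additive]
    (h : ∀ S : ShortComplex A, S.ShortExact → (S.map G).ShortExact) :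
    PreservesFiniteLimits G ∧ PreservesFiniteColimits G :=
  ((Functor.exact_tfae G).out 0 3).1 h

/-- The functor `M ↦ H^p(M ⊗^L F)` is computed termwise by a K-flat resolution of `F`. -/
theorem nonempty_iso (F : CochainComplex X.Modules ℤ) [DCoh.HasLTensorCx F] (p : ℤ) :
    Nonempty (DerivedCategory.singleFunctor X.Modules 0 ⋙ DCoh.LTensorCx F ⋙
      DerivedCategory.homologyFunctor X.Modules p ≅
        termCx ((resY X).obj F) ⋙ HomologicalComplex.homologyFunctor X.Modules (ComplexShape.up ℤ) p) := by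
  let F' := (resY X).obj F
  have hF : DCoh.IsKFlat F' := isKFlat_resY F
  have := quasiIso_resYπ (Y := X) F
  let e : DCoh.toD X F' ≅ DCoh.toD X F := asIso (DerivedCategory.Q.map ((resYπ X).app F))
  haveI := LTensor.hasLTensorCx F'
  obtain ⟨eL⟩ := DEq.nonempty_ltensorCongr e.symm
  let τ : DerivedCategory.Q ⋙ DCoh.LTensorCx F' ⟶ DCoh.tensorCxQ F' := LTensor.toTensor F'
  haveI : ∀ K, IsIso (τ.app K) := LTensor.isIso_toTensor_of_kflat F' hF
  haveI : IsIso τ := NatIso.isIso_of_isIso_app _
  let H := HomologicalComplex.homologyFunctor X.Modules (ComplexShape.up ℤ) p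
  exact ⟨Functor.isoWhiskerLeft _ (Functor.isoWhiskerRight eL _) ≪≫
      Functor.isoWhiskerLeft (CochainComplex.singleFunctor X.Modules 0) (Functor.isoWhiskerRight (asIso τ) _ ≪≫
        Functor.associator _ _ _ ≪≫
        Functor.isoWhiskerLeft _ (DerivedCategory.homologyFunctorFactors X.Modules p) ≪≫
        Functor.isoWhiskerRight ((tensFlipIso X.sheaf).app F') H) ≪≫
      (Functor.associator _ _ _).symm ≪≫ Functor.isoWhiskerRight (singleTensorIso F') H⟩

/-- The functor `M ↦ H^p(M ⊗ F')` maps short exact sequences of modules to short exact sequences. -/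
theorem shortExact_map [IsReduced X] [∀ x : X, DCoh.HasLpull (X.fromSpecResidueField x)]
    (F : CochainComplex X.Modules ℤ) (E : DCoh.D X) (eF : DCoh.toD X F ≅ E)
    (p : ℤ) (hE : DCoh.IsPseudoCoherentD (p - 1) E)
    (hc : IsLocallyConstant (fun x : X => PerfD.betti E x p))
    (S : ShortComplex X.Modules) (hS : S.ShortExact) :
    (S.map (termCx ((resY X).obj F) ⋙
      HomologicalComplex.homologyFunctor X.Modules (ComplexShape.up ℤ) p)).ShortExact := by
  let F' := (resY X).obj F
  have hF : DCoh.IsKFlat F' := isKFlat_resY F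
  have := quasiIso_resYπ (Y := X) F
  let e : DCoh.toD X F' ≅ E := asIso (DerivedCategory.Q.map ((resYπ X).app F)) ≪≫ eF
  let H := HomologicalComplex.homologyFunctor X.Modules (ComplexShape.up ℤ) p
  refine shortExact_of_stalk _ fun z => ?_
  let e₃ : (termCx F' ⋙ H) ⋙ DerSch.stalkFunctor X z ≅
      DerSch.stalkFunctor X z ⋙ tH ((StalkCx.stCx z).obj F') p :=
    Functor.associator _ _ _ ≪≫
      Functor.isoWhiskerLeft _ (MapHomology.cxIso (DerSch.stalkFunctor X z) p).symm ≪≫
      (Functor.associator _ _ _).symm ≪≫ Functor.isoWhiskerRight (stTermIso F' z) _ ≪≫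
      Functor.associator _ _ _
  have hg := good_stalk F' hF E e p hE hc z _ (hS.map_of_exact (DerSch.stalkFunctor X z))
  exact (ShortComplex.shortExact_of_iso (S.mapNatIso e₃.symm) hg :
    (S.map ((termCx F' ⋙ H) ⋙ DerSch.stalkFunctor X z)).ShortExact)

end Groth.Agent.TensorExact.Sheaf
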