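import Groth.Agent.TensorExact.Ring
import Mathlib.RingTheory.Flat.Basic

/-!
# Exactness of `N ↦ H^p(C ⊗ N)` makes the cokernels of the differentials flat
-/

set_option autoImplicit false

universe u

open CategoryTheory CategoryTheory.Limits MonoidalCategory
open scoped TensorProduct

noncomputable section

namespace Groth.Agent.TensorExact.Conv

open Groth.Agent.TensorExact.Ring

variable {R : Type u} [CommRing R]

theorem flat_of_mem_range {A B : Type u} [AddCommGroup A] [Module R A] [AddCommGroup B] [Module R B]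
    (a : A →ₗ[R] B)
    (h : ∀ (I : Ideal R) (t : B ⊗[R] I),
      I.subtype.lTensor B t ∈ LinearMap.range (a.rTensor R) → t ∈ LinearMap.range (a.rTensor I)) :
    Module.Flat R (B ⧸ LinearMap.range a) := by
  refine Module.Flat.iff_lTensor_injective'.2 fun I => ?_
  rw [injective_iff_map_eq_zero]
  intro s hs
  obtain ⟨t, rfl⟩ := LinearMap.rTensor_surjective (Q := I) (Submodule.mkQ_surjective (LinearMap.range a)) s
  have key : I.subtype.lTensor (B ⧸ LinearMap.range a) ((LinearMap.range a).mkQ.rTensor I t) =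
      (LinearMap.range a).mkQ.rTensor R (I.subtype.lTensor B t) := by
    rw [← LinearMap.comp_apply, ← LinearMap.comp_apply, LinearMap.lTensor_comp_rTensor,
      LinearMap.rTensor_comp_lTensor]
  rw [key] at hs
  have ht := h I t
    (((rTensor_exact (Q := R) (LinearMap.exact_map_mkQ_range a) (Submodule.mkQ_surjective _)) _).1 hs)
  obtain ⟨w, rfl⟩ := ht
  exact (rTensor_exact (Q := I) (LinearMap.exact_map_mkQ_range a) (Submodule.mkQ_surjective _)).apply_apply_eq_zero w

variable (C : CochainComplex (ModuleCat.{u} R) ℤ) (p : ℤ) [Module.Flat R (C.X (p + 1))]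

/-- Left exactness makes the cokernel of `d^{p-1}` flat. -/
theorem flat_prev [(tH C p).PreservesMonomorphisms] :
    Module.Flat R (C.X p ⧸ LinearMap.range (C.d (p - 1) p).hom) := by
  refine flat_of_mem_range _ fun I t ht => ?_
  obtain ⟨w, hw⟩ := ht
  let f : ModuleCat.of R I ⟶ ModuleCat.of R R := ModuleCat.ofHom I.subtype
  have : Mono f := (ModuleCat.mono_iff_injective f).2 Subtype.val_injective
  have hinj := (ModuleCat.mono_iff_injective _).1 ((tH C p).map_mono f)
  have hd : DRing.Homology.IsCyc ((tCx C).obj (ModuleCat.of R I)) p t := by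
    apply Module.Flat.lTensor_preserves_injective_linearMap (M := C.X (p + 1)) I.subtype Subtype.val_injective
    refine Eq.trans ?_ (map_zero _).symm
    refine Eq.trans (DRing.Homology.hom_d ((tCx C).map f) p (p + 1) t).symm ?_
    refine (congrArg _ hw.symm).trans ?_
    exact DRing.Homology.d_d (K := (tCx C).obj (ModuleCat.of R R)) (p - 1) p (p + 1) w
  obtain ⟨e', he'⟩ := (DRing.Homology.homologyMap_injective_iff ((tCx C).map f) p (p - 1) (by omega)).1
    hinj t w hd hw.symm
  exact ⟨e', he'⟩

/-- Right exactness makes the cokernel of `d^p` flat. -/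
theorem flat_next [(tH C p).PreservesEpimorphisms] :
    Module.Flat R (C.X (p + 1) ⧸ LinearMap.range (C.d p (p + 1)).hom) := by
  refine flat_of_mem_range _ fun I t ht => ?_
  obtain ⟨z, hz⟩ := ht
  let g : ModuleCat.of R R ⟶ ModuleCat.of R (R ⧸ I) := ModuleCat.ofHom (Submodule.mkQ I)
  have : Epi g := (ModuleCat.epi_iff_surjective g).2 (Submodule.mkQ_surjective I)
  have hsur := (ModuleCat.epi_iff_surjective _).1 ((tH C p).map_epi g)
  have hg0 : (Submodule.mkQ I) ∘ₗ I.subtype = 0 :=
    LinearMap.ext fun x => (Submodule.Quotient.mk_eq_zero I).2 x.2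
  have hc : DRing.Homology.IsCyc ((tCx C).obj (ModuleCat.of R (R ⧸ I))) p ((Submodule.mkQ I).lTensor (C.X p) z) := by
    refine (DRing.Homology.hom_d ((tCx C).map g) p (p + 1) z).trans ?_
    refine (congrArg _ hz).trans ?_
    change (Submodule.mkQ I).lTensor (C.X (p + 1)) (I.subtype.lTensor (C.X (p + 1)) t) = 0
    rw [← LinearMap.lTensor_comp_apply, hg0, LinearMap.lTensor_zero, LinearMap.zero_apply]
  obtain ⟨e, w, he, hew⟩ :=
    (DRing.Homology.homologyMap_surjective_iff ((tCx C).map g) p (p - 1) (by omega)).1 hsur _ hc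
  obtain ⟨w', hw'⟩ := LinearMap.lTensor_surjective (C.X (p - 1)) (Submodule.mkQ_surjective I) w
  have hex := lTensor_exact (C.X p) (LinearMap.exact_subtype_mkQ I) (Submodule.mkQ_surjective I)
  have hgd : (Submodule.mkQ I).lTensor (C.X p) ((C.d (p - 1) p).hom.rTensor R w') =
      (C.d (p - 1) p).hom.rTensor (R ⧸ I) w := by
    rw [← LinearMap.comp_apply, LinearMap.lTensor_comp_rTensor, ← LinearMap.rTensor_comp_lTensor,
      LinearMap.comp_apply, hw']
  let e₀ : C.X p ⊗[R] R := e
  obtain ⟨u, hu⟩ := (hex _).1 (show (Submodule.mkQ I).lTensor (C.X p)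
      (z - (e₀ + (C.d (p - 1) p).hom.rTensor R w')) = 0 by
    rw [map_sub, map_add, hgd, sub_eq_zero]
    exact hew.symm)
  refine ⟨u, ?_⟩
  apply Module.Flat.lTensor_preserves_injective_linearMap (M := C.X (p + 1)) I.subtype Subtype.val_injective
  rw [← LinearMap.comp_apply, LinearMap.lTensor_comp_rTensor, ← LinearMap.rTensor_comp_lTensor,
    LinearMap.comp_apply, hu, map_sub, map_add, hz]
  rw [show (C.d p (p + 1)).hom.rTensor R e₀ = 0 from he, show (C.d p (p + 1)).hom.rTensor R
    ((C.d (p - 1) p).hom.rTensor R w') = 0 from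
      DRing.Homology.d_d (K := (tCx C).obj (ModuleCat.of R R)) (p - 1) p (p + 1) w', add_zero, sub_zero]

end Groth.Agent.TensorExact.Conv
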