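import Groth.Agent.KFlat.TildeKFlat
import Groth.Agent.PCohD.StalkExt
import Groth.Agent.QCoh.Qcqs
import Groth.Agent.QCohGen.Closed
import Mathlib.CategoryTheory.Adjunction.FullyFaithful

/-!
# Quasi-coherent modules with a prescribed stalk, functorially
-/

set_option autoImplicit false

set_option linter.style.haveILetI false
set_option linter.unusedSectionVars false

universe u

open CategoryTheory CategoryTheory.Limits AlgebraicGeometry

noncomputable section

namespace Groth.Agent.TensorExact.Probe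

theorem isIso_counit_of_localization {R B : Type u} [CommRing R] [CommRing B] (σ : R →+* B)
    (h : ∀ b : B, ∃ r s : R, IsUnit (σ s) ∧ b * σ s = σ r) :
    IsIso (ModuleCat.extendRestrictScalarsAdj.{u, u, u} σ).counit := by
  have : (ModuleCat.restrictScalars.{u} σ).Full := ⟨fun {M N} g => by
    refine ⟨ModuleCat.ofHom
      { toFun := fun m => (g.hom m : N)
        map_add' := g.hom.map_add
        map_smul' := fun b m => ?_ }, ?_⟩
    · obtain ⟨r, s, hs, e⟩ := h b
      have h1 := g.hom.map_smul r (m : (ModuleCat.restrictScalars σ).obj M)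
      have h2 := g.hom.map_smul s ((b • m : M) : (ModuleCat.restrictScalars σ).obj M)
      change g.hom (σ r • m : M) = σ r • (g.hom m : N) at h1
      change g.hom (σ s • b • m : M) = σ s • (g.hom (b • m : M) : N) at h2
      rw [smul_smul, mul_comm, e, h1] at h2
      refine hs.smul_left_cancel.1 (h2.symm.trans ?_)
      rw [RingHom.id_apply]
      exact ((smul_smul (σ s) b (g.hom m : N)).trans
        (congrArg (· • (g.hom m : N)) ((mul_comm _ _).trans e))).symm
    · rfl⟩
  exact Adjunction.counit_isIso_of_R_fully_faithful _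

theorem toLocal_surj (R : CommRingCat.{u}) (x : Spec R) (b : (Spec R).presheaf.stalk x) :
    ∃ r s : R, IsUnit (KFlat.TildeKFlat.toLocal R x s) ∧
      b * KFlat.TildeKFlat.toLocal R x s = KFlat.TildeKFlat.toLocal R x r := by
  have hU := isAffineOpen_top (Spec R)
  let := TopCat.Presheaf.algebra_section_stalk (Spec R).presheaf (⟨x, trivial⟩ : (⊤ : (Spec R).Opens))
  have hl := hU.isLocalization_stalk (⟨x, trivial⟩ : (⊤ : (Spec R).Opens))
  obtain ⟨⟨r, s⟩, hrs⟩ := IsLocalization.surj (M := (hU.primeIdealOf ⟨x, trivial⟩).asIdeal.primeCompl) b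
  have hu := IsLocalization.map_units (M := (hU.primeIdealOf ⟨x, trivial⟩).asIdeal.primeCompl)
    ((Spec R).presheaf.stalk x) s
  have e : ∀ a : Γ(Spec R, ⊤), KFlat.TildeKFlat.toLocal R x ((Scheme.ΓSpecIso R).hom.hom a) =
      algebraMap Γ(Spec R, ⊤) ((Spec R).presheaf.stalk x) a := fun a =>
    congrArg ((Spec R).presheaf.germ ⊤ x trivial).hom ((Scheme.ΓSpecIso R).hom_inv_id_apply a)
  refine ⟨(Scheme.ΓSpecIso R).hom.hom r, (Scheme.ΓSpecIso R).hom.hom s.1, ?_, ?_⟩
  · rw [e]; exact hu
  · rw [e, e]; exact hrs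

variable {X : Scheme.{u}} {R : CommRingCat.{u}} (j : Spec R ⟶ X) [IsOpenImmersion j]
  [QuasiCompact j] [QuasiSeparated j] (v : Spec R)

/-- Base change to the stalk of `Spec R`. -/
abbrev ext : ModuleCat.{u} (X.presheaf.stalk (j v)) ⥤ ModuleCat.{u} ((Spec R).presheaf.stalk v) :=
  ModuleCat.extendScalars.{u, u, u} (j.stalkMap v).hom

/-- A quasi-coherent module with prescribed stalk at `j v`. -/
def Φ : ModuleCat.{u} (X.presheaf.stalk (j v)) ⥤ X.Modules :=
  (ext j v ⋙ ModuleCat.restrictScalars (KFlat.TildeKFlat.toLocal R v) ⋙ tilde.functor R) ⋙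
    Scheme.Modules.pushforward j

theorem isQuasicoherent_Φ (N : ModuleCat.{u} (X.presheaf.stalk (j v))) :
    ((Φ j v).obj N).IsQuasicoherent :=
  @Groth.Agent.QCoh.isQuasicoherent_pushforward _ _ j _ _ _
    (inferInstanceAs ((tilde.functor R).obj ((ModuleCat.restrictScalars (KFlat.TildeKFlat.toLocal R v)).obj
      ((ext j v).obj N))).IsQuasicoherent)

/-- The functor to quasi-coherent modules. -/
def Φq : ModuleCat.{u} (X.presheaf.stalk (j v)) ⥤ QCohCat.QCoh X :=
  (QCohCat.isQCoh X).lift (Φ j v) (isQuasicoherent_Φ j v)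

/-- The stalk of `Φ N` is `N`. -/
def stalkIso : Φ j v ⋙ DerSch.stalkFunctor X (j v) ≅ 𝟭 _ :=
  haveI := isIso_counit_of_localization _ (toLocal_surj R v)
  let Ψ := ext j v ⋙ ModuleCat.restrictScalars (KFlat.TildeKFlat.toLocal R v) ⋙ tilde.functor R
  Functor.fullyFaithfulCancelRight (ext j v)
    (Functor.associator _ _ _ ≪≫ Functor.isoWhiskerLeft _ (PCohD.StalkExt.stRes j v).symm ≪≫
      Functor.associator _ _ _ ≪≫
      Functor.isoWhiskerLeft Ψ ((Functor.associator _ _ _).symm ≪≫
        Functor.isoWhiskerRight (Scheme.Modules.restrictFunctorAdjCounitIso j) _ ≪≫ Functor.leftUnitor _) ≪≫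
      Functor.associator _ _ _ ≪≫ Functor.isoWhiskerLeft _ (Functor.associator _ _ _ ≪≫
        Functor.isoWhiskerLeft _ (KFlat.TildeKFlat.stalkTildeIso R v) ≪≫
        asIso (ModuleCat.extendRestrictScalarsAdj.{u, u, u} (KFlat.TildeKFlat.toLocal R v)).counit) ≪≫
      Functor.rightUnitor _ ≪≫ (Functor.leftUnitor _).symm)

/-- The stalk of `Φq N` is `N`. -/
def stalkIsoQ : Φq j v ⋙ (QCohCat.isQCoh X).ι ⋙ DerSch.stalkFunctor X (j v) ≅ 𝟭 _ :=
  (Functor.associator _ _ _).symm ≪≫ Functor.isoWhiskerRight (ObjectProperty.liftCompιIso _ (Φ j v) (isQuasicoherent_Φ j v)) _ ≪≫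
    stalkIso j v

instance : (Φq j v).PreservesMonomorphisms where
  preserves {M N} f _ := by
    have : (Φ j v).PreservesMonomorphisms := by
      have : (tilde.functor R).PreservesMonomorphisms := by
        have := KFlat.TildeExact.preservesFiniteLimits_tilde R
        infer_instance
      have : (ext j v).IsEquivalence := inferInstance
      unfold Φ
      infer_instance
    have h : Mono ((Φ j v).map f) := (Φ j v).map_mono f
    exact ((QCohCat.isQCoh X).ι).mono_of_mono_map (show Mono (((QCohCat.isQCoh X).ι).map ((Φq j v).map f)) from h)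

/-- A functor computing an exact functor through a functor with a left inverse on stalks is exact. -/
theorem preserves_of_section {X : Scheme.{u}} {x : X} {C : Type*} [Category C] [Abelian C]
    (G : C ⥤ X.Modules) [G.PreservesMonomorphisms] [G.PreservesEpimorphisms]
    (St : C ⥤ ModuleCat.{u} (X.presheaf.stalk x)) [St.PreservesMonomorphisms] [St.PreservesEpimorphisms]
    (Ψ : ModuleCat.{u} (X.presheaf.stalk x) ⥤ C) [Ψ.PreservesMonomorphisms] (eΨ : Ψ ⋙ St ≅ 𝟭 _)
    (T : ModuleCat.{u} (X.presheaf.stalk x) ⥤ ModuleCat.{u} (X.presheaf.stalk x))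
    (e : G ⋙ DerSch.stalkFunctor X x ≅ St ⋙ T) :
    T.PreservesMonomorphisms ∧ T.PreservesEpimorphisms := by
  let e' : (Ψ ⋙ G) ⋙ DerSch.stalkFunctor X x ≅ T :=
    Functor.associator _ _ _ ≪≫ Functor.isoWhiskerLeft _ e ≪≫ (Functor.associator _ _ _).symm ≪≫
      Functor.isoWhiskerRight eΨ T ≪≫ Functor.leftUnitor T
  refine ⟨Functor.PreservesMonomorphisms.of_iso e', ⟨fun {M N} g _ => ?_⟩⟩
  let ψ := Ψ.map g
  let π := Abelian.coimage.π ψ
  let h := Abelian.factorThruCoimage ψ
  have hfac : π ≫ h = ψ := Abelian.coimage.fac ψ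
  haveI : Mono h := inferInstance
  haveI : Epi (St.map ψ) := (NatIso.naturality_2 eΨ g) ▸
    (show Epi (eΨ.hom.app M ≫ (𝟭 _).map g ≫ eΨ.inv.app N) from
      @epi_comp _ _ _ _ _ _ inferInstance _ (@epi_comp _ _ _ _ _ _ ‹Epi g› _ inferInstance))
  haveI : Epi (St.map h) := epi_of_epi_fac (f := St.map π) (by rw [← St.map_comp, hfac])
  haveI : Mono (St.map h) := St.map_mono h
  haveI : IsIso (St.map h) := isIso_of_mono_of_epi _
  haveI : Epi ((St ⋙ T).map ψ) := by
    have h1 : Epi ((G ⋙ DerSch.stalkFunctor X x).map π) :=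
      (DerSch.stalkFunctor X x).map_epi (G.map π)
    have h2 : Epi ((St ⋙ T).map π) := by
      rw [← NatIso.naturality_1 e π]
      exact @epi_comp _ _ _ _ _ _ inferInstance _ (@epi_comp _ _ _ _ _ _ h1 _ inferInstance)
    haveI : IsIso ((St ⋙ T).map h) := inferInstanceAs (IsIso (T.map (St.map h)))
    rw [← hfac, Functor.map_comp]
    exact @epi_comp _ _ _ _ _ _ h2 _ inferInstance
  let a := Functor.isoWhiskerRight eΨ T
  have : Epi ((Functor.id _ ⋙ T).map g) := by
    rw [← NatIso.naturality_1 a g]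
    exact @epi_comp _ _ _ _ _ _ inferInstance _ (@epi_comp _ _ _ _ _ _ ‹Epi ((St ⋙ T).map ψ)› _ inferInstance)
  exact this

/-- A functor on `ModuleCat` computing the stalk of an exact functor on quasi-coherent modules is exact. -/
theorem preserves_of_qcoh (G : QCohCat.QCoh X ⥤ X.Modules) [G.PreservesMonomorphisms]
    [G.PreservesEpimorphisms]
    (T : ModuleCat.{u} (X.presheaf.stalk (j v)) ⥤ ModuleCat.{u} (X.presheaf.stalk (j v)))
    (e : G ⋙ DerSch.stalkFunctor X (j v) ≅
      ((QCohCat.isQCoh X).ι ⋙ DerSch.stalkFunctor X (j v)) ⋙ T) :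
    T.PreservesMonomorphisms ∧ T.PreservesEpimorphisms :=
  preserves_of_section G _ (Φq j v) (stalkIsoQ j v) T e

end Groth.Agent.TensorExact.Probe
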