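import Groth.Agent.TensorExact.Sheaf
import Groth.Agent.TensorExact.Conv
import Groth.Agent.TensorExact.Probe
import Groth.Agent.PCohD.PerfAmp
import Groth.Agent.PCohD.PerfTor

/-!
# Local freeness of `H^p` and constancy of the Betti number from exactness on quasi-coherent modules
-/

set_option autoImplicit false
set_option linter.style.haveILetI false

universe u

open CategoryTheory CategoryTheory.Limits AlgebraicGeometry

attribute [local instance] HasDerivedCategory.standard

noncomputable section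

namespace Groth.Agent.TensorExact.Converse

open Groth.Agent.KFlat Groth.Agent.KFlat.Pull Groth.Agent.TensorExact.Ring Groth.Agent.TensorExact.Sheaf
open Groth.Agent.Props.QRank (fibreRank)

variable {X : Scheme.{u}}

/-- The homology at `i` is finite locally free if the two cokernels are. -/
theorem isFinLocFree_homology (S : CochainComplex X.Modules ℤ) (i : ℤ)
    (hS : FlatMod.IsFinLocFree (S.X (i + 1))) (h₁ : FlatMod.IsFinLocFree (cokernel (S.d (i - 1) i)))
    (h₂ : FlatMod.IsFinLocFree (cokernel (S.d i (i + 1)))) : FlatMod.IsFinLocFree (S.homology i) := by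
  let π := cokernel.π (S.d i (i + 1))
  have hI : FlatMod.IsFinLocFree (kernel π) := PCohD.PerfAmp.isFinLocFree_kernel π hS h₂
  let q : cokernel (S.d (i - 1) i) ⟶ S.X (i + 1) := cokernel.desc _ (S.d i (i + 1)) (S.d_comp_d _ _ _)
  have hq : q ≫ π = 0 := by rw [← cancel_epi (cokernel.π (S.d (i - 1) i))]; simp [q, π]
  let l : cokernel (S.d (i - 1) i) ⟶ kernel π := kernel.lift π q hq
  have : Epi l := by
    have h : cokernel.π (S.d (i - 1) i) ≫ l = Abelian.factorThruImage (S.d i (i + 1)) := by
      rw [← cancel_mono (kernel.ι π)]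
      simp [l, q, π, kernel.lift_ι]
    have : Epi (cokernel.π (S.d (i - 1) i) ≫ l) := h ▸ inferInstance
    exact epi_of_epi (cokernel.π (S.d (i - 1) i)) l
  let eo : S.opcycles i ≅ cokernel (S.d (i - 1) i) :=
    IsColimit.coconePointUniqueUpToIso (S.opcyclesIsCokernel (i - 1) i (by simp))
      (colimit.isColimit (parallelPair (S.d (i - 1) i) 0))
  have he : eo.hom ≫ q = S.fromOpcycles i (i + 1) := by
    rw [← cancel_epi (S.pOpcycles i), ← Category.assoc]
    have h0 : S.pOpcycles i ≫ eo.hom = cokernel.π (S.d (i - 1) i) :=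
      IsColimit.comp_coconePointUniqueUpToIso_hom (S.opcyclesIsCokernel (i - 1) i (by simp))
        (colimit.isColimit _) WalkingParallelPair.one
    rw [h0, cokernel.π_desc, HomologicalComplex.p_fromOpcycles]
  refine Groth.Agent.KFlat.LocFree.isFinLocFree_of_iso ?_ (PCohD.PerfAmp.isFinLocFree_kernel l h₁ hI)
  refine kernelIsoOfEq (show l = l from rfl) ≪≫ (kernelCompMono l (kernel.ι π)).symm ≪≫
    kernelIsoOfEq (kernel.lift_ι π q hq) ≪≫ ?_
  exact (kernel.mapIso q (S.fromOpcycles i (i + 1)) eo.symm (Iso.refl _) (by simp [← he])) ≪≫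
    IsLimit.conePointUniqueUpToIso (kernelIsKernel _) (S.homologyIsKernel i (i + 1) (by simp))

/-- The inverse of `stV` on flatness. -/
theorem flat_of_flat_stV (V : X.Opens) (v : (V : Scheme.{u})) {M : (V : Scheme.{u}).Modules}
    (h : Module.Flat (X.presheaf.stalk (V.ι v)) ((stV V v).obj M)) :
    Module.Flat ((V : Scheme.{u}).presheaf.stalk v) ((DerSch.stalkFunctor (V : Scheme.{u}) v).obj M) := by
  let φ := (V.ι.stalkMap v).hom
  have hid : φ.comp (invHom V v) = RingHom.id _ := RingHom.ext fun x =>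
    (RingEquiv.ofBijective (V.ι.stalkMap v).hom
      (ConcreteCategory.bijective_of_isIso (V.ι.stalkMap v))).apply_symm_apply x
  let e : (ModuleCat.extendScalars.{u, u, u} φ).obj ((stV V v).obj M) ≅
      (DerSch.stalkFunctor (V : Scheme.{u}) v).obj M :=
    ((ModuleCat.extendScalarsComp (invHom V v) φ).symm ≪≫ eqToIso (by rw [hid]) ≪≫
      ModuleCat.extendScalarsId _).app _
  have h2 : Module.Flat ((V : Scheme.{u}).presheaf.stalk v)
      ((ModuleCat.extendScalars.{u, u, u} φ).obj ((stV V v).obj M)) := by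
    letI := φ.toAlgebra
    exact Module.Flat.baseChange _ _ _
  exact Module.Flat.of_linearEquiv e.symm.toLinearEquiv

/-- Exactness on every stalk gives finite local freeness and constancy. -/
theorem of_stalks [∀ x : X, DCoh.HasLpull (X.fromSpecResidueField x)]
    (F : CochainComplex X.Modules ℤ) (hF : DCoh.IsKFlat F) (E : DCoh.D X) (eF : DCoh.toD X F ≅ E)
    (p : ℤ) (hE : DCoh.IsPseudoCoherentD (p - 1) E)
    (hG : ∀ z : X, (tH ((StalkCx.stCx z).obj F) p).PreservesMonomorphisms ∧
      (tH ((StalkCx.stCx z).obj F) p).PreservesEpimorphisms) :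
    FlatMod.IsFinLocFree (DCoh.HD E p) ∧ IsLocallyConstant (fun x : X => PerfD.betti E x p) := by
  have main : ∀ z : X, ∃ (V : X.Opens) (_ : z ∈ V), FlatMod.IsFinLocFree ((DCoh.HD E p).restrict V.ι) ∧
      ∀ᶠ y in nhds z, PerfD.betti E y p = PerfD.betti E z p := by
    intro z
    obtain ⟨V, hz, hV⟩ := hE z
    obtain ⟨S, α, hS, hiso, hepi⟩ := hV F ⟨eF⟩
    obtain ⟨Z, s, hs, φ, hφ⟩ := DerivedCategory.right_fac α
    let Q' := (resY (V : Scheme.{u})).obj Z
    let t : Q' ⟶ S := (resYπ (V : Scheme.{u})).app Z ≫ s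
    let ψ : Q' ⟶ (DCoh.restrictCx V).obj F := (resYπ (V : Scheme.{u})).app Z ≫ φ
    have hsq : QuasiIso s :=
      (DerivedCategory.isIso_Q_map_iff_quasiIso (C := (V : Scheme.{u}).Modules) s).1 hs
    have hπ := quasiIso_resYπ Z
    have ht : QuasiIso t := quasiIso_comp (hφ := hπ) (hφ' := hsq) ..
    have hit : IsIso (DerivedCategory.Q.map t) :=
      (DerivedCategory.isIso_Q_map_iff_quasiIso (C := (V : Scheme.{u}).Modules) t).2 ht
    have hψ : DHA.PCohQis.IsQisN ψ (p - 1) := by
      rw [DHA.PCohAPI.isQisN_iff]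
      have e : DerivedCategory.Q.map ψ = DerivedCategory.Q.map t ≫ α := by simp [ψ, t, hφ]
      rw [e]
      exact (LocalD.hQisN_of_isIso (DerivedCategory.Q.map t) (p - 1)).comp ⟨hiso, hepi⟩
    have ht' : DHA.PCohQis.IsQisN t (p - 1) := by
      rw [DHA.PCohAPI.isQisN_iff]
      exact LocalD.hQisN_of_isIso (DerivedCategory.Q.map t) (p - 1)
    have hfl : ∀ v : (V : Scheme.{u}),
        Module.Flat ((V : Scheme.{u}).presheaf.stalk v)
            ((DerSch.stalkFunctor (V : Scheme.{u}) v).obj (cokernel (S.d (p - 1) p))) ∧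
          Module.Flat ((V : Scheme.{u}).presheaf.stalk v) ((DerSch.stalkFunctor (V : Scheme.{u}) v).obj (cokernel (S.d p (p + 1)))) := by
      intro v
      let GC := (stV V v).mapHomologicalComplex (ComplexShape.up ℤ)
      obtain ⟨e⟩ := nonempty_roofIso (stV V v) t ψ p ht' hψ
        (isKFlat_stV V v (isKFlat_resY Z))
        (isKFlat_stV V v (LocalD.isKFlat_of_isStrictlyPerfect hS))
        (isKFlat_stV V v (LocalD.isKFlat_restrict hF V))
        (C := (StalkCx.stCx (V.ι v)).obj F)
        (HomologicalComplex.Hom.isoOfComponents (fun n => (stVIso V v).app (F.X n))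
          fun i j _ => ((stVIso V v).hom.naturality (F.d i j)).symm)
      obtain ⟨hm, he⟩ := hG (V.ι v)
      haveI : (tH (GC.obj S) p).PreservesMonomorphisms := Functor.PreservesMonomorphisms.of_iso e.symm
      haveI : (tH (GC.obj S) p).PreservesEpimorphisms := Functor.PreservesEpimorphisms.of_iso e.symm
      haveI : Module.Flat (X.presheaf.stalk (V.ι v)) ((GC.obj S).X (p + 1)) :=
        flat_stV V v (LocalD.flat_of_isFinLocFree (hS.2 (p + 1)) v)
      haveI h1 := Conv.flat_prev (GC.obj S) p
      haveI h2 := Conv.flat_next (GC.obj S) p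
      exact ⟨flat_of_flat_stV V v (Module.Flat.of_linearEquiv
          (PreservesCokernel.iso (stV V v) (S.d (p - 1) p) ≪≫
            ModuleCat.cokernelIsoRangeQuotient ((GC.obj S).d (p - 1) p)).toLinearEquiv),
        flat_of_flat_stV V v (Module.Flat.of_linearEquiv
          (PreservesCokernel.iso (stV V v) (S.d p (p + 1)) ≪≫
            ModuleCat.cokernelIsoRangeQuotient ((GC.obj S).d p (p + 1))).toLinearEquiv)⟩
    have h₁ := PCohD.PerfTor.isFinLocFree_cokernel (hS.2 _) (hS.2 _) (S.d (p - 1) p) fun v => (hfl v).1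
    have h₂ := PCohD.PerfTor.isFinLocFree_cokernel (hS.2 _) (hS.2 _) (S.d p (p + 1)) fun v => (hfl v).2
    refine ⟨V, hz, ?_, ?_⟩
    · haveI := hiso p (by omega)
      let H := DerivedCategory.homologyFunctor (V : Scheme.{u}).Modules p
      let e : S.homology p ≅ (DCoh.HD E p).restrict V.ι :=
        ((DerivedCategory.homologyFunctorFactors _ p).app S).symm ≪≫ asIso (H.map α) ≪≫
          (DerivedCategory.homologyFunctorFactors _ p).app _ ≪≫
          (MapHomology.cxIso (Scheme.Modules.restrictFunctor V.ι) p).app F ≪≫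
          (Scheme.Modules.restrictFunctor V.ι).mapIso
            (((DerivedCategory.homologyFunctorFactors _ p).app F).symm ≪≫
              (DerivedCategory.homologyFunctor X.Modules p).mapIso eF)
      exact Groth.Agent.KFlat.LocFree.isFinLocFree_of_iso e (isFinLocFree_homology S p (hS.2 _) h₁ h₂)
    · haveI := PerfTri.Betti.isQuasicoherent_of_isFinLocFree (hS.2 (p + 1))
      haveI := PerfTri.Betti.isQuasicoherent_of_isFinLocFree h₁
      haveI := PerfTri.Betti.isQuasicoherent_of_isFinLocFree h₂
      let v : (V : Scheme.{u}) := ⟨z, hz⟩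
      have hmap : nhds z = Filter.map V.ι (nhds v) := (V.ι.isOpenEmbedding.map_nhds_eq v).symm
      rw [hmap, Filter.eventually_map]
      filter_upwards [(Props.QRank.isLocallyConstant_fibreRank _ (hS.2 (p + 1))).eventually_eq v,
        (Props.QRank.isLocallyConstant_fibreRank _ h₁).eventually_eq v,
        (Props.QRank.isLocallyConstant_fibreRank _ h₂).eventually_eq v] with w e₀ e₁ e₂
      have A := PerfTri.Betti.betti_add F hF E eF V S hS p α ⟨hiso, hepi⟩ z hz
      have B := PerfTri.Betti.betti_add F hF E eF V S hS p α ⟨hiso, hepi⟩ (V.ι w) w.2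
      have hw : (⟨V.ι w, w.2⟩ : (V : Scheme.{u})) = w := rfl
      rw [hw] at B
      have hv : (⟨z, hz⟩ : (V : Scheme.{u})) = v := rfl
      rw [hv] at A
      change PerfD.betti E (V.ι w) p = PerfD.betti E z p
      omega
  refine ⟨PCohD.PerfAmp.isFinLocFree_of_local fun z => ?_, (IsLocallyConstant.iff_eventually_eq _).2 fun z => ?_⟩
  · obtain ⟨V, hz, h, -⟩ := main z
    exact ⟨V, hz, h⟩
  · obtain ⟨V, hz, -, h⟩ := main z
    exact h

/-- Exactness on all modules gives exactness on every stalk. -/
theorem preserves_tH_of_modules (F : CochainComplex X.Modules ℤ) (p : ℤ) (G : X.Modules ⥤ X.Modules)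
    [G.PreservesMonomorphisms] [G.PreservesEpimorphisms]
    (eG : G ≅ termCx F ⋙ HomologicalComplex.homologyFunctor X.Modules (ComplexShape.up ℤ) p) (z : X) :
    (tH ((StalkCx.stCx z).obj F) p).PreservesMonomorphisms ∧
      (tH ((StalkCx.stCx z).obj F) p).PreservesEpimorphisms := by
  haveI : (StalkTensor.skyF z).PreservesMonomorphisms :=
    have := (StalkTensor.stalkSkyAdj z).isRightAdjoint
    inferInstance
  let St := DerSch.stalkFunctor X z
  refine Probe.preserves_of_section G St (StalkTensor.skyF z)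
    (asIso (StalkTensor.stalkSkyAdj z).counit) (tH ((StalkCx.stCx z).obj F) p) ?_
  exact Functor.isoWhiskerRight eG St ≪≫ Functor.associator _ _ _ ≪≫
      Functor.isoWhiskerLeft _ (MapHomology.cxIso St p).symm ≪≫
      (Functor.associator _ _ _).symm ≪≫
      Functor.isoWhiskerRight (stTermIso F z) _ ≪≫ Functor.associator _ _ _

variable [QuasiSeparatedSpace X]

/-- Exactness on quasi-coherent modules gives exactness on every stalk. -/
theorem preserves_tH (F : CochainComplex X.Modules ℤ) (p : ℤ) (G : QCohCat.QCoh X ⥤ X.Modules)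
    [G.PreservesMonomorphisms] [G.PreservesEpimorphisms]
    (eG : G ≅ (QCohCat.isQCoh X).ι ⋙ termCx F ⋙
      HomologicalComplex.homologyFunctor X.Modules (ComplexShape.up ℤ) p) (z : X) :
    (tH ((StalkCx.stCx z).obj F) p).PreservesMonomorphisms ∧
      (tH ((StalkCx.stCx z).obj F) p).PreservesEpimorphisms := by
  obtain ⟨U, hU, hz, -⟩ := exists_isAffineOpen_mem_and_subset (X := X) (TopologicalSpace.Opens.mem_top z)
  obtain ⟨v, rfl⟩ : z ∈ Set.range hU.fromSpec := by rw [hU.range_fromSpec]; exact hz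
  let St := DerSch.stalkFunctor X (hU.fromSpec v)
  refine Probe.preserves_of_qcoh hU.fromSpec v G (tH ((StalkCx.stCx (hU.fromSpec v)).obj F) p) ?_
  exact Functor.isoWhiskerRight eG St ≪≫ Functor.associator _ _ _ ≪≫
    Functor.isoWhiskerLeft _ (Functor.associator _ _ _ ≪≫
      Functor.isoWhiskerLeft _ (MapHomology.cxIso St p).symm ≪≫
      (Functor.associator _ _ _).symm ≪≫
      Functor.isoWhiskerRight (stTermIso F (hU.fromSpec v)) _ ≪≫ Functor.associator _ _ _) ≪≫
    (Functor.associator _ _ _).symm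

/-- Exactness on quasi-coherent modules gives finite local freeness and constancy. -/
theorem of_exact [∀ x : X, DCoh.HasLpull (X.fromSpecResidueField x)]
    (F : CochainComplex X.Modules ℤ) (hF : DCoh.IsKFlat F) (E : DCoh.D X) (eF : DCoh.toD X F ≅ E)
    (p : ℤ) (hE : DCoh.IsPseudoCoherentD (p - 1) E) (G : QCohCat.QCoh X ⥤ X.Modules)
    [G.PreservesMonomorphisms] [G.PreservesEpimorphisms]
    (eG : G ≅ (QCohCat.isQCoh X).ι ⋙ termCx F ⋙
      HomologicalComplex.homologyFunctor X.Modules (ComplexShape.up ℤ) p) :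
    FlatMod.IsFinLocFree (DCoh.HD E p) ∧ IsLocallyConstant (fun x : X => PerfD.betti E x p) :=
  of_stalks F hF E eF p hE (preserves_tH F p G eG)

end Groth.Agent.TensorExact.Converse
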