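import Groth.Agent.TensorExact.Sheaf
import Groth.Agent.DEq.ProjQCoh
import Groth.Agent.PCohD.NPC
import Groth.Agent.DRing.RelPC
import Groth.Agent.KFlat.PCNoeth
import Groth.Agent.S6207
import Groth.Agent.S6235
import Groth.Agent.S6236
import Groth.Agent.CohDerLib.QC.CohPush
import Groth.Agent.CohDev.Coh
import Groth.Agent.HomShEval.Reflexive

/-!
# `M ↦ R^p f_*(Lf^* M ⊗ F)` as `M ↦ H^p(M ⊗ Rf_* F)`
-/

set_option autoImplicit false
set_option linter.style.haveILetI false

universe u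

open CategoryTheory CategoryTheory.Limits AlgebraicGeometry

attribute [local instance] HasDerivedCategory.standard

noncomputable section

namespace Groth.Agent.TensorExact.Push

open Groth.Agent.KFlat Groth.Agent.KFlat.Pull Groth.Agent.KFlat.RPush

variable {X Y : Scheme.{u}} (f : X ⟶ Y)

theorem isNPseudoCoherent [IsLocallyNoetherian Y] [LocallyOfFiniteType f] (n : ℤ) :
    DerSch.IsNPseudoCoherent f n := by
  refine (PCohD.npc_iff f).2 fun U V h => ?_
  letI := (f.appLE (V : Y.Opens) (U : X.Opens) h).hom.toAlgebra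
  haveI := IsLocallyNoetherian.component_noetherian V
  haveI : Algebra.FiniteType Γ(Y, (V : Y.Opens)) Γ(X, (U : X.Opens)) :=
    HasRingHomProperty.appLE @LocallyOfFiniteType f inferInstance V U h
  exact (DRing.RelPC.relPCModuleAll_iff_of_noetherian _).2 inferInstance n

theorem isCohD_of_relAll [IsLocallyNoetherian Y] [LocallyOfFiniteType f] (E : DCoh.D X) (b : ℤ) [E.IsLE b]
    (hE : DerSch.IsPseudoCoherentRelAll f E) : DCoh.IsCohD E := fun i => by
  have : IsLocallyNoetherian X := LocallyOfFiniteType.isLocallyNoetherian f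
  exact PCNoeth.isCoh_of_pc E (S6235.result f E hE) i
    ((S6207.result f (isNPseudoCoherent f) i b E).2 (hE i)) i le_rfl

theorem isProperOver_support [IsProper f] {M : X.Modules} (hM : Coh.IsCoh M) :
    ClSub.IsProperOver f (CohB1.support M) :=
  ⟨CohDev.isClosed_support hM, inferInstance⟩

theorem isPseudoCoherentD_Rpush [IsNoetherian Y] [IsProper f] [DCoh.HasRpush f] (E : DCoh.D X) (a b : ℤ)
    [E.IsGE a] [E.IsLE b] (hE : DCoh.IsCohD E) (m : ℤ) :
    DCoh.IsPseudoCoherentD m ((DCoh.Rpush f).obj E) := by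
  have hs := fun i => isProperOver_support f (hE i)
  obtain ⟨b', hb'⟩ := CohDerLib.QC.exists_isLE_Rpush f E a b (fun i => (hE i).1) hs
  exact PCNoeth.isPseudoCoherentD_of_isCohD _ (CohDerLib.QC.isCohD_Rpush f E a hE hs
    (HomShEval.Reflexive.isCoh_structureModule Y)) b' m

theorem isQCohD_inD (M : Y.Modules) (hM : M.IsQuasicoherent) :
    DCoh.IsQCohD ((DerivedCategory.singleFunctor Y.Modules 0).obj M) :=
  QCohModel.isQCohD_Q_of_terms _ fun i => by
    by_cases h : i = 0
    · subst h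
      exact @Groth.Agent.QCoh.isQuasicoherent_of_iso _ _ _
        (HomologicalComplex.singleObjXSelf (ComplexShape.up ℤ) (0 : ℤ) M).symm hM
    · obtain ⟨Z, hZ, hP⟩ := ObjectProperty.ContainsZero.exists_zero (P := QCohCat.isQCoh Y)
      exact @Groth.Agent.QCoh.isQuasicoherent_of_iso _ _ _
        (hZ.iso (HomologicalComplex.isZero_single_obj_X (ComplexShape.up ℤ) 0 M i h)) hP

variable [IsProper f] [DCoh.HasLpull f] [DCoh.HasRpush f]

/-- The projection formula on quasi-coherent modules, naturally. -/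
theorem nonempty_iso (F : CochainComplex X.Modules ℤ) [DCoh.HasLTensorCx F]
    (hF : DCoh.IsQCohD (DCoh.toD X F)) :
    ∃ (G : CochainComplex Y.Modules ℤ) (_ : DCoh.toD Y G ≅ (DCoh.Rpush f).obj (DCoh.toD X F))
      (_ : DCoh.HasLTensorCx G), Nonempty
      ((QCohCat.isQCoh Y).ι ⋙ DerivedCategory.singleFunctor Y.Modules 0 ⋙ DCoh.Lpull f ⋙
          DCoh.LTensorCx F ⋙ DCoh.Rpush f ≅
        (QCohCat.isQCoh Y).ι ⋙ DerivedCategory.singleFunctor Y.Modules 0 ⋙ DCoh.LTensorCx G) := by
  let J := (injRes X).obj F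
  let eJ : DerivedCategory.Q.obj J ≅ DerivedCategory.Q.obj F := injQIso.app F
  haveI := LTensor.hasLTensorCx (ProjPerfect.fJ f J)
  haveI := LTensor.hasLTensorCx J
  let rp : DerivedCategory.Q.obj (ProjPerfect.fJ f J) ≅ (DCoh.Rpush f).obj (DerivedCategory.Q.obj J) :=
    @asIso _ _ _ _ ((toRpush f).app J) (isIso_toRpush f J)
  refine ⟨ProjPerfect.fJ f J, rp ≪≫ (DCoh.Rpush f).mapIso eJ, inferInstance, ?_⟩
  obtain ⟨eL⟩ := DEq.nonempty_ltensorCongr eJ.symm
  let I := (QCohCat.isQCoh Y).ι ⋙ DerivedCategory.singleFunctor Y.Modules 0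
  have hI : ∀ M, IsIso ((ProjPerfect.ν f J).app (I.obj M)) := fun M => by
    let S := (CochainComplex.singleFunctor Y.Modules 0).obj M.obj
    let eP : DerivedCategory.Q.obj ((resY Y).obj S) ≅ I.obj M := resQIso.app S
    exact (NatTrans.isIso_app_iff_of_iso (ProjPerfect.ν f J) eP).1
      (DEq.ProjQCoh.isIso_ν f J (QCohModel.isQCohD_of_iso eJ.symm hF) _ (isKFlat_resY S)
        (QCohModel.isQCohD_of_iso eP.symm (isQCohD_inD M.obj M.property)))
  haveI : IsIso (Functor.whiskerLeft I (ProjPerfect.ν f J)) :=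
    have : ∀ M, IsIso ((Functor.whiskerLeft I (ProjPerfect.ν f J)).app M) := hI
    NatIso.isIso_of_isIso_app _
  exact ⟨Functor.isoWhiskerLeft I (Functor.isoWhiskerLeft (DCoh.Lpull f) (Functor.isoWhiskerRight eL _) ≪≫
      (Functor.associator _ _ _).symm) ≪≫ (asIso (Functor.whiskerLeft I (ProjPerfect.ν f J))).symm⟩

end Groth.Agent.TensorExact.Push
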