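import Groth.Agent.TensorExact.Converse
import Groth.Agent.DRing.LTensor
import Groth.Agent.KFlat.FlatRes
import Groth.Agent.S4652
import Groth.Agent.S6253

/-!
# Exactness of `M ↦ H^q(M ⊗ F)` spreads from a stalk to a neighbourhood
-/

set_option autoImplicit false
set_option linter.style.haveILetI false

universe u

open CategoryTheory CategoryTheory.Limits AlgebraicGeometry MonoidalCategory

attribute [local instance] HasDerivedCategory.standard

noncomputable section

namespace Groth.Agent.TensorExact.Spread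

open Groth.Agent.TensorExact.Ring

section RingLevel

variable {R : Type u} [CommRing R]

/-- `M[0] ⊗ P` is the termwise tensor product, naturally. -/
def singleIso (P : DRing.Cx R) :
    CochainComplex.singleFunctor (ModuleCat.{u} R) 0 ⋙ tensorRight P ≅ tCx P :=
  (NatIso.ofComponents (fun N => DRing.SingleTensor.iso N P) fun {M N} f => by
    refine HomologicalComplex.hom_ext _ _ fun n => ?_
    simp only [HomologicalComplex.comp_f]
    change P.X n ◁ f ≫ DRing.SingleTensor.toT N P n = DRing.SingleTensor.toT M P n ≫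
      ((((HomologicalComplex.single (ModuleCat.{u} R) (ComplexShape.up ℤ) 0).map f)) ▷ P).f n
    unfold DRing.SingleTensor.toT
    rw [Category.assoc, Category.assoc, DRing.Tensor.ιT_whiskerRight,
      BraidedCategory.braiding_naturality_right_assoc, ← comp_whiskerRight_assoc, ← comp_whiskerRight_assoc]
    congr 3).symm

/-- `N ↦ H^p(N ⊗ᴸ E)` through a K-flat model. -/
theorem nonempty_tH_iso {E P : DRing.Cx R} (t : P ⟶ E) [QuasiIso t] (hP : DRing.KFlat.IsKFlat P)
    [DRing.HasLTensorCx R E] (p : ℤ) :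
    Nonempty (DerivedCategory.singleFunctor (ModuleCat.{u} R) 0 ⋙ DRing.LTensorCx R E ⋙
      DerivedCategory.homologyFunctor (ModuleCat.{u} R) p ≅ tH P p) := by
  haveI := DRing.LTensor.hasLTensorCx P
  let W := HomologicalComplex.quasiIso (ModuleCat.{u} R) (ComplexShape.up ℤ)
  let a := (DRing.tensorCxQ R P).totalLeftDerivedCounit DerivedCategory.Q W
  let b := (DRing.tensorCxQ R E).totalLeftDerivedCounit DerivedCategory.Q W
  let τ : DRing.tensorCxQ R P ⟶ DRing.tensorCxQ R E :=
    Functor.whiskerRight ((tensoringRight (DRing.Cx R)).map t) DerivedCategory.Q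
  let β : DRing.LTensorCx R P ⟶ DRing.LTensorCx R E :=
    Functor.leftDerivedNatTrans (DRing.LTensorCx R P) (DRing.LTensorCx R E) a b W τ
  have hβ : ∀ Z, IsIso (β.app Z) := fun Z => by
    obtain ⟨K, π, hK, -, hq, -⟩ := DRing.KProjRes.exists_resolution (DerivedCategory.Q.objPreimage Z)
    have hK' := DRing.KFlat.isKFlat_of_isKProjective K
    have : IsIso (DerivedCategory.Q.map π) := inferInstance
    refine (NatTrans.isIso_app_iff_of_iso β
      (asIso (DerivedCategory.Q.map π) ≪≫ DerivedCategory.Q.objObjPreimageIso Z)).1 ?_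
    have ha : IsIso (a.app K) := DRing.LTensor.isIso_toTensor P hK'
    have hb : IsIso (b.app K) := DRing.LTensor.isIso_toTensor E hK'
    have hτ : IsIso (τ.app K) := by
      have := DRing.KFlat.quasiIso_whiskerLeft hK' t
      exact inferInstanceAs (IsIso (DerivedCategory.Q.map (K ◁ t)))
    have h : β.app (DerivedCategory.Q.obj K) ≫ b.app K = a.app K ≫ τ.app K :=
      Functor.leftDerivedNatTrans_app ..
    have h' : IsIso (β.app (DerivedCategory.Q.obj K) ≫ b.app K) := by
      rw [h]
      exact IsIso.comp_isIso' ha hτ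
    exact @IsIso.of_isIso_comp_right _ _ _ _ _ _ (b.app K) hb h'
  haveI : IsIso β := NatIso.isIso_of_isIso_app _
  haveI : ∀ K, IsIso (a.app K) := DRing.LTensor.isIso_toTensor_of_kflat_right P hP
  haveI : IsIso a := NatIso.isIso_of_isIso_app _
  let H := HomologicalComplex.homologyFunctor (ModuleCat.{u} R) (ComplexShape.up ℤ) p
  exact ⟨Functor.isoWhiskerLeft _ (Functor.isoWhiskerRight (asIso β).symm _) ≪≫
    Functor.isoWhiskerLeft (CochainComplex.singleFunctor (ModuleCat.{u} R) 0)
      (Functor.isoWhiskerRight (asIso a) _ ≪≫ Functor.associator _ _ _ ≪≫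
        Functor.isoWhiskerLeft _ (DerivedCategory.homologyFunctorFactors (ModuleCat.{u} R) p)) ≪≫
      (Functor.associator _ _ _).symm ≪≫ Functor.isoWhiskerRight (singleIso P) H⟩

/-- Tensoring a termwise flat complex with modules is exact. -/
theorem shortExact_tCx (P : CochainComplex (ModuleCat.{u} R) ℤ) (hP : ∀ i, Module.Flat R (P.X i))
    {S : ShortComplex (ModuleCat.{u} R)} (hS : S.ShortExact) : (S.map (tCx P)).ShortExact := by
  refine HomologicalComplex.shortExact_of_degreewise_shortExact _ fun n => ?_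
  haveI := hP n
  exact { exact := (ShortComplex.ShortExact.moduleCat_exact_iff_function_exact _).2
            (lTensor_exact (P.X n) ((ShortComplex.ShortExact.moduleCat_exact_iff_function_exact _).1 hS.exact)
              hS.moduleCat_surjective_g)
          mono_f := (ModuleCat.mono_iff_injective _).2
            (Module.Flat.lTensor_preserves_injective_linearMap (M := P.X n) _ hS.moduleCat_injective_f)
          epi_g := (ModuleCat.epi_iff_surjective _).2
            (LinearMap.lTensor_surjective (P.X n) hS.moduleCat_surjective_g) }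

end RingLevel

open Groth.Agent.KFlat Groth.Agent.KFlat.Pull Groth.Agent.TensorExact.Sheaf

variable {X : Scheme.{u}}

/-- The stalk of the cokernel of a differential. -/
def stCokerIso (P : CochainComplex X.Modules ℤ) (i j : ℤ) (z : X) :
    (DerSch.stalkFunctor X z).obj (cokernel (P.d i j)) ≅
      ModuleCat.of _ (((StalkCx.stCx z).obj P).X j ⧸ LinearMap.range (((StalkCx.stCx z).obj P).d i j).hom) :=
  PreservesCokernel.iso (DerSch.stalkFunctor X z) (P.d i j) ≪≫
    ModuleCat.cokernelIsoRangeQuotient (((StalkCx.stCx z).obj P).d i j)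

/-- Flat cokernels on stalks make `H^q(- ⊗ P)` left exact. -/
theorem preservesFiniteLimits_of_flat (P : CochainComplex X.Modules ℤ) (hP : ∀ i, FlatMod.IsFlat (P.X i))
    (q : ℤ) (h : ∀ z : X, Module.Flat (X.presheaf.stalk z)
      ((DerSch.stalkFunctor X z).obj (cokernel (P.d (q - 1) q)))) :
    PreservesFiniteLimits (termCx P ⋙ HomologicalComplex.homologyFunctor X.Modules (ComplexShape.up ℤ) q) := by
  let H := HomologicalComplex.homologyFunctor X.Modules (ComplexShape.up ℤ) q
  have hlim := (Functor.preservesFiniteLimits_tfae (termCx P ⋙ H)).out 0 3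
  refine hlim.1 fun S hS =>
    ⟨(S6253.shortExact_termCx P hP hS).homology_exact₂ q, StalkTensor.mono_of_stalk_injective _ fun z => ?_⟩
  let e₃ : (termCx P ⋙ H) ⋙ DerSch.stalkFunctor X z ≅
      DerSch.stalkFunctor X z ⋙ tH ((StalkCx.stCx z).obj P) q :=
    Functor.associator _ _ _ ≪≫
      Functor.isoWhiskerLeft _ (MapHomology.cxIso (DerSch.stalkFunctor X z) q).symm ≪≫
      (Functor.associator _ _ _).symm ≪≫ Functor.isoWhiskerRight (stTermIso P z) _ ≪≫
      Functor.associator _ _ _
  have := h z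
  haveI := Module.Flat.of_linearEquiv (stCokerIso P (q - 1) q z).symm.toLinearEquiv
  haveI := preservesMono ((StalkCx.stCx z).obj P) q
  have := hS.mono_f
  haveI : (DerSch.stalkFunctor X z ⋙ tH ((StalkCx.stCx z).obj P) q).PreservesMonomorphisms := inferInstance
  haveI := Functor.PreservesMonomorphisms.of_iso e₃.symm
  exact (ModuleCat.mono_iff_injective _).1 (((termCx P ⋙ H) ⋙ DerSch.stalkFunctor X z).map_mono S.f)

/-- Left exactness at a point gives a flat cokernel there. -/
theorem flat_stalk_coker (P : CochainComplex X.Modules ℤ) (hP : ∀ i, FlatMod.IsFlat (P.X i)) (q : ℤ) (z : X)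
    [(tH ((StalkCx.stCx z).obj P) q).PreservesMonomorphisms] :
    Module.Flat (X.presheaf.stalk z) ((DerSch.stalkFunctor X z).obj (cokernel (P.d (q - 1) q))) := by
  haveI : Module.Flat (X.presheaf.stalk z) (((StalkCx.stCx z).obj P).X (q + 1)) := hP (q + 1) z
  haveI := Conv.flat_prev ((StalkCx.stCx z).obj P) q
  exact Module.Flat.of_linearEquiv (stCokerIso P (q - 1) q z).toLinearEquiv

/-- A map of finite locally free modules has finitely presented cokernel. -/
theorem isFP_cokernel_of_isFinLocFree {A B : X.Modules} (hA : FlatMod.IsFinLocFree A)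
    (hB : FlatMod.IsFinLocFree B) (f : A ⟶ B) : CohB1.IsFP (cokernel f) := by
  have : A.IsQuasicoherent := PerfTri.Betti.isQuasicoherent_of_isFinLocFree hA
  have : B.IsQuasicoherent := PerfTri.Betti.isQuasicoherent_of_isFinLocFree hB
  have : SheafOfModules.IsFinitePresentation.{u} (R := X.ringCatSheaf) A := Props.QProj.isFP A hA
  have hA' : CohB1.IsFT A := SheafOfModules.instIsFiniteTypeOfIsFinitePresentation (R := X.ringCatSheaf) A
  exact LimTop.isFP_cokernel hA' (Props.QProj.isFP B hB) f

/-- Flatness at a point survives restriction to an open. -/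
theorem flat_restrict (U : X.Opens) (u : (U : Scheme.{u})) (M : X.Modules)
    (h : Module.Flat (X.presheaf.stalk (U.ι u)) ((DerSch.stalkFunctor X (U.ι u)).obj M)) :
    Module.Flat ((U : Scheme.{u}).presheaf.stalk u)
      ((DerSch.stalkFunctor (U : Scheme.{u}) u).obj ((Scheme.Modules.restrictFunctor U.ι).obj M)) :=
  Converse.flat_of_flat_stV U u (Module.Flat.of_linearEquiv ((stVIso U u).app M).toLinearEquiv)

set_option maxHeartbeats 1600000 in
/-- Left exactness at a point spreads to a neighbourhood. -/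
theorem exists_nhd_flat (F P : CochainComplex X.Modules ℤ) (g : P ⟶ F) [QuasiIso g] (hP : DCoh.IsKFlat P)
    (hfl : ∀ i, FlatMod.IsFlat (P.X i)) (q : ℤ) (hE : DCoh.IsPseudoCoherentD (q - 1) (DCoh.toD X F)) (x : X)
    (hm : (tH ((StalkCx.stCx x).obj P) q).PreservesMonomorphisms) :
    ∃ U : X.Opens, x ∈ U ∧ ∀ z ∈ U, Module.Flat (X.presheaf.stalk z)
      ((DerSch.stalkFunctor X z).obj (cokernel (P.d (q - 1) q))) := by
  obtain ⟨V, hx, hV⟩ := hE x
  obtain ⟨S, α, hS, hiso, hepi⟩ := hV P ⟨asIso (DerivedCategory.Q.map g)⟩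
  obtain ⟨Z, s, hs, φ, hφ⟩ := DerivedCategory.right_fac α
  let Q' := (resY (V : Scheme.{u})).obj Z
  let t : Q' ⟶ S := (resYπ (V : Scheme.{u})).app Z ≫ s
  let ψ : Q' ⟶ (DCoh.restrictCx V).obj P := (resYπ (V : Scheme.{u})).app Z ≫ φ
  have hsq : QuasiIso s :=
    (DerivedCategory.isIso_Q_map_iff_quasiIso (C := (V : Scheme.{u}).Modules) s).1 hs
  have hπ := quasiIso_resYπ Z
  have ht : QuasiIso t := quasiIso_comp (hφ := hπ) (hφ' := hsq) ..
  have hit : IsIso (DerivedCategory.Q.map t) :=
    (DerivedCategory.isIso_Q_map_iff_quasiIso (C := (V : Scheme.{u}).Modules) t).2 ht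
  have hψ : DHA.PCohQis.IsQisN ψ (q - 1) := by
    rw [DHA.PCohAPI.isQisN_iff]
    have e : DerivedCategory.Q.map ψ = DerivedCategory.Q.map t ≫ α := by simp [ψ, t, hφ]
    rw [e]
    exact (LocalD.hQisN_of_isIso (DerivedCategory.Q.map t) (q - 1)).comp ⟨hiso, hepi⟩
  have ht' : DHA.PCohQis.IsQisN t (q - 1) := by
    rw [DHA.PCohAPI.isQisN_iff]
    exact LocalD.hQisN_of_isIso (DerivedCategory.Q.map t) (q - 1)
  have key : ∀ w : (V : Scheme.{u}), Nonempty
      (tH (((stV V w).mapHomologicalComplex (ComplexShape.up ℤ)).obj S) q ≅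
        tH ((StalkCx.stCx (V.ι w)).obj P) q) := fun w =>
    nonempty_roofIso (stV V w) t ψ q ht' hψ
      (isKFlat_stV V w (isKFlat_resY Z))
      (isKFlat_stV V w (LocalD.isKFlat_of_isStrictlyPerfect hS))
      (isKFlat_stV V w (LocalD.isKFlat_restrict hP V))
      (C := (StalkCx.stCx (V.ι w)).obj P)
      (HomologicalComplex.Hom.isoOfComponents (fun n => (stVIso V w).app (P.X n))
        fun i j _ => ((stVIso V w).hom.naturality (P.d i j)).symm)
  let v : (V : Scheme.{u}) := ⟨x, hx⟩
  let GC := (stV V v).mapHomologicalComplex (ComplexShape.up ℤ)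
  have hflat : FlatMod.IsFlatAt (cokernel (S.d (q - 1) q)) v := by
    obtain ⟨e⟩ := key v
    haveI : (tH ((StalkCx.stCx (V.ι v)).obj P) q).PreservesMonomorphisms := hm
    haveI := Functor.PreservesMonomorphisms.of_iso e.symm
    haveI : Module.Flat (X.presheaf.stalk (V.ι v)) ((GC.obj S).X (q + 1)) :=
      flat_stV V v (LocalD.flat_of_isFinLocFree (hS.2 (q + 1)) v)
    haveI := Conv.flat_prev (GC.obj S) q
    exact Converse.flat_of_flat_stV V v (Module.Flat.of_linearEquiv
          (PreservesCokernel.iso (stV V v) (S.d (q - 1) q) ≪≫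
            ModuleCat.cokernelIsoRangeQuotient ((GC.obj S).d (q - 1) q)).toLinearEquiv)
  have hfp := isFP_cokernel_of_isFinLocFree (hS.2 (q - 1)) (hS.2 q) (S.d (q - 1) q)
  obtain ⟨W, hvW, hW⟩ := (S4652.result _ hfp v).1 hflat
  refine ⟨V.ι ''ᵁ W, ⟨v, hvW, rfl⟩, ?_⟩
  rintro z ⟨w, hw, rfl⟩
  have hwf : Module.Flat _ _ := (S4652.result _ hfp w).2 ⟨W, hw, hW⟩
  let GW := (stV V w).mapHomologicalComplex (ComplexShape.up ℤ)
  haveI hwV := flat_stV V w hwf
  haveI : Module.Flat (X.presheaf.stalk (V.ι w)) ((GW.obj S).X q ⧸ LinearMap.range ((GW.obj S).d (q - 1) q).hom) :=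
    flat_cokernel_of_iso (C := GW.obj S)
      (PreservesCokernel.iso (stV V w) (S.d (q - 1) q)).symm
  haveI := preservesMono (GW.obj S) q
  obtain ⟨e⟩ := key w
  haveI := Functor.PreservesMonomorphisms.of_iso e
  exact flat_stalk_coker P hfl q (V.ι w)

set_option maxHeartbeats 800000 in
/-- The model on a neighbourhood. -/
theorem exists_nhd_model (F : CochainComplex X.Modules ℤ) (e : ℤ) [(DCoh.toD X F).IsLE e] (x : X)
    [DRing.HasLTensorCx (X.presheaf.stalk x) ((StalkCx.stCx x).obj F)]
    [∀ U : X.Opens, DCoh.HasLTensorCx ((DCoh.restrictCx U).obj F)] :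
    ∃ (P : CochainComplex X.Modules ℤ) (g : P ⟶ F), QuasiIso g ∧ DCoh.IsKFlat P ∧
      (∀ i, FlatMod.IsFlat (P.X i)) ∧
      (∀ q : ℤ, Nonempty (DerivedCategory.singleFunctor (ModuleCat.{u} (X.presheaf.stalk x)) 0 ⋙
        DRing.LTensorCx (X.presheaf.stalk x) ((StalkCx.stCx x).obj F) ⋙
        DerivedCategory.homologyFunctor (ModuleCat.{u} (X.presheaf.stalk x)) q ≅
          tH ((StalkCx.stCx x).obj P) q)) ∧
      ∀ U : X.Opens, (∀ i, FlatMod.IsFlat (((DCoh.restrictCx U).obj P).X i)) ∧ ∀ q : ℤ, Nonempty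
        (DerivedCategory.singleFunctor (U : Scheme.{u}).Modules 0 ⋙
          DCoh.LTensorCx ((DCoh.restrictCx U).obj F) ⋙
          DerivedCategory.homologyFunctor (U : Scheme.{u}).Modules q ≅
          termCx ((DCoh.restrictCx U).obj P) ⋙
            HomologicalComplex.homologyFunctor (U : Scheme.{u}).Modules (ComplexShape.up ℤ) q) := by
  obtain ⟨P, g, hflat, hz, hg⟩ := FlatRes.exists_flatRes F e fun i hi =>
    (DerivedCategory.isZero_of_isLE _ e i hi).of_iso
      ((DerivedCategory.homologyFunctorFactors X.Modules i).app F).symm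
  have hP : DCoh.IsKFlat P := isKFlat_of_flat_boundedAbove P e hz hflat
  refine ⟨P, g, hg, hP, hflat, fun q => ?_, fun U => ⟨fun i u => flat_restrict U u (P.X i) (hflat i _), fun q => ?_⟩⟩
  · have : QuasiIso ((StalkCx.stCx x).map g) := inferInstance
    exact nonempty_tH_iso ((StalkCx.stCx x).map g) ((StalkCx.isKFlat_iff_stalk P).1 hP x) q
  · have : QuasiIso ((DCoh.restrictCx U).map g) := inferInstance
    exact S6253.nonempty_model_iso _ _ (LocalD.isKFlat_restrict hP U)
      (asIso (DerivedCategory.Q.map ((DCoh.restrictCx U).map g))) q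

set_option maxHeartbeats 800000 in
/-- Left exactness at a point gives left exactness on a neighbourhood. -/
theorem exists_nhd_left (F P : CochainComplex X.Modules ℤ) (g : P ⟶ F) [QuasiIso g] (hP : DCoh.IsKFlat P)
    (hfl : ∀ i, FlatMod.IsFlat (P.X i)) (q : ℤ) (hE : DCoh.IsPseudoCoherentD (q - 1) (DCoh.toD X F)) (x : X)
    (hm : (tH ((StalkCx.stCx x).obj P) q).PreservesMonomorphisms) :
    ∃ U : X.Opens, x ∈ U ∧ PreservesFiniteLimits (termCx ((DCoh.restrictCx U).obj P) ⋙
      HomologicalComplex.homologyFunctor (U : Scheme.{u}).Modules (ComplexShape.up ℤ) q) := by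
  obtain ⟨U, hx, hU⟩ := exists_nhd_flat F P g hP hfl q hE x hm
  refine ⟨U, hx, preservesFiniteLimits_of_flat ((DCoh.restrictCx U).obj P) (fun i u => flat_restrict U u (P.X i) (hfl i _)) q fun u => ?_⟩
  haveI := flat_restrict U u _ (hU _ u.2)
  exact Module.Flat.of_linearEquiv ((DerSch.stalkFunctor (U : Scheme.{u}) u).mapIso
    (PreservesCokernel.iso (Scheme.Modules.restrictFunctor U.ι) (P.d (q - 1) q)).symm).toLinearEquiv

end Groth.Agent.TensorExact.Spread
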