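import Groth.Agent.TensorExact.Converse
import Groth.Agent.DRing.LTensor
import Groth.Agent.PCohD.StalkExt
import Groth.Agent.LimTop.ModModel
import Groth.Agent.S4652
import Groth.Prelude.Def_DRing4

/-!
# Left exactness of `M ↦ H^p(M ⊗^L F)` spreads from a stalk to a neighbourhood
-/

set_option autoImplicit false
set_option linter.style.haveILetI false

universe u

open CategoryTheory CategoryTheory.Limits AlgebraicGeometry MonoidalCategory

attribute [local instance] HasDerivedCategory.standard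

noncomputable section

namespace Groth.Agent.TensorExact.NhdLeft

open Groth.Agent.KFlat Groth.Agent.KFlat.Pull Groth.Agent.TensorExact.Ring Groth.Agent.TensorExact.Sheaf

section Ring

open DRing.Tensor DRing.SingleTensor

variable {R : Type u} [CommRing R]

theorem ιT_whiskerRight {L L' : CochainComplex (ModuleCat.{u} R) ℤ} (g : L ⟶ L')
    (P : CochainComplex (ModuleCat.{u} R) ℤ) (p q n : ℤ) (h : p + q = n) :
    ιT L P p q n h ≫ (g ▷ P).f n = g.f p ▷ P.X q ≫ ιT L' P p q n h := by
  refine (HomologicalComplex.ι_mapBifunctorMap _ _ _ _ p q n h).trans ?_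
  simp

theorem toT_natural_left {M M' : ModuleCat.{u} R} (f : M ⟶ M') (P : CochainComplex (ModuleCat.{u} R) ℤ)
    (n : ℤ) : P.X n ◁ f ≫ toT M' P n =
      toT M P n ≫ ((HomologicalComplex.single (ModuleCat.{u} R) (ComplexShape.up ℤ) 0).map f ▷ P).f n := by
  unfold toT
  rw [Category.assoc, Category.assoc, ιT_whiskerRight,
    BraidedCategory.braiding_naturality_right_assoc, ← comp_whiskerRight_assoc,
    ← comp_whiskerRight_assoc, HomologicalComplex.single_map_f_self]
  simp [HomologicalComplex.singleObjXSelf]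

/-- The termwise tensor product is the total one against a single module, naturally. -/
def tCxIso (C : CochainComplex (ModuleCat.{u} R) ℤ) :
    tCx C ≅ CochainComplex.singleFunctor (ModuleCat.{u} R) 0 ⋙ tensorRight C :=
  NatIso.ofComponents (fun N => DRing.SingleTensor.iso N C) fun {M M'} f => by
    refine HomologicalComplex.hom_ext _ _ fun n => ?_
    exact toT_natural_left f C n

/-- The derived functor is computed by a K-flat resolution of the fixed factor. -/
theorem nonempty_iso_tH {C C' : CochainComplex (ModuleCat.{u} R) ℤ} (π : C' ⟶ C) [QuasiIso π]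
    (hC' : DRing.KFlat.IsKFlat C') [_root_.DRing.HasLTensorCx R C] (p : ℤ) :
    Nonempty (DerivedCategory.singleFunctor (ModuleCat.{u} R) 0 ⋙ _root_.DRing.LTensorCx R C ⋙
      DerivedCategory.homologyFunctor (ModuleCat.{u} R) p ≅ tH C' p) := by
  haveI := DRing.LTensor.hasLTensorCx C'
  let W := HomologicalComplex.quasiIso (ModuleCat.{u} R) (ComplexShape.up ℤ)
  let τ : _root_.DRing.tensorCxQ R C' ⟶ _root_.DRing.tensorCxQ R C :=
    Functor.whiskerRight ((tensoringRight (CochainComplex (ModuleCat.{u} R) ℤ)).map π) DerivedCategory.Q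
  let α' := (_root_.DRing.tensorCxQ R C').totalLeftDerivedCounit DerivedCategory.Q W
  let α := (_root_.DRing.tensorCxQ R C).totalLeftDerivedCounit DerivedCategory.Q W
  let σ := Functor.leftDerivedNatTrans (_root_.DRing.LTensorCx R C') (_root_.DRing.LTensorCx R C) α' α W τ
  haveI : ∀ K, IsIso (α'.app K) := fun K => DRing.LTensor.isIso_toTensor_of_kflat_right C' hC' K
  haveI : ∀ K, IsIso (σ.app K) := fun K => by
    obtain ⟨P, q, hP, -, hq, -⟩ := DRing.KProjRes.exists_resolution (DerivedCategory.Q.objPreimage K)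
    have hPk := DRing.KFlat.isKFlat_of_isKProjective P
    have h1 : IsIso (α.app P) := DRing.LTensor.isIso_toTensor C hPk
    have h2 : IsIso (τ.app P) := by
      have := DRing.KFlat.quasiIso_whiskerLeft hPk π
      exact inferInstanceAs (IsIso (DerivedCategory.Q.map (P ◁ π)))
    have h3 : IsIso (σ.app (DerivedCategory.Q.obj P) ≫ α.app P) := by
      rw [show σ.app (DerivedCategory.Q.obj P) ≫ α.app P = α'.app P ≫ τ.app P from
        Functor.leftDerivedNatTrans_app _ _ _ _ _ _ _]
      infer_instance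
    have h4 : IsIso (σ.app (DerivedCategory.Q.obj P)) := IsIso.of_isIso_comp_right _ (α.app P)
    exact (NatTrans.isIso_app_iff_of_iso σ
      (asIso (DerivedCategory.Q.map q) ≪≫ DerivedCategory.Q.objObjPreimageIso K)).1 h4
  haveI : IsIso σ := NatIso.isIso_of_isIso_app _
  haveI : IsIso α' := NatIso.isIso_of_isIso_app _
  exact ⟨Functor.isoWhiskerLeft _ (Functor.isoWhiskerRight (asIso σ).symm _) ≪≫
    Functor.isoWhiskerLeft (CochainComplex.singleFunctor _ 0) (Functor.isoWhiskerRight (asIso α') _ ≪≫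
      Functor.associator _ _ _ ≪≫
      Functor.isoWhiskerLeft _ (DerivedCategory.homologyFunctorFactors _ p)) ≪≫
    (Functor.associator _ _ _).symm ≪≫ Functor.isoWhiskerRight (tCxIso C').symm _⟩

end Ring

variable {X : Scheme.{u}}

/-- The functor is computed termwise by any K-flat complex representing `F`. -/
theorem nonempty_iso' (K F : CochainComplex X.Modules ℤ) (hK : DCoh.IsKFlat K)
    (e : DCoh.toD X K ≅ DCoh.toD X F) [DCoh.HasLTensorCx F] (p : ℤ) :
    Nonempty (DerivedCategory.singleFunctor X.Modules 0 ⋙ DCoh.LTensorCx F ⋙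
      DerivedCategory.homologyFunctor X.Modules p ≅
        termCx K ⋙ HomologicalComplex.homologyFunctor X.Modules (ComplexShape.up ℤ) p) := by
  haveI := LTensor.hasLTensorCx K
  obtain ⟨eL⟩ := DEq.nonempty_ltensorCongr e.symm
  let τ : DerivedCategory.Q ⋙ DCoh.LTensorCx K ⟶ DCoh.tensorCxQ K := LTensor.toTensor K
  haveI : ∀ L, IsIso (τ.app L) := LTensor.isIso_toTensor_of_kflat K hK
  haveI : IsIso τ := NatIso.isIso_of_isIso_app _
  let H := HomologicalComplex.homologyFunctor X.Modules (ComplexShape.up ℤ) p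
  exact ⟨Functor.isoWhiskerLeft _ (Functor.isoWhiskerRight eL _) ≪≫
      Functor.isoWhiskerLeft (CochainComplex.singleFunctor X.Modules 0) (Functor.isoWhiskerRight (asIso τ) _ ≪≫
        Functor.associator _ _ _ ≪≫
        Functor.isoWhiskerLeft _ (DerivedCategory.homologyFunctorFactors X.Modules p) ≪≫
        Functor.isoWhiskerRight ((tensFlipIso X.sheaf).app K) H) ≪≫
      (Functor.associator _ _ _).symm ≪≫ Functor.isoWhiskerRight (singleTensorIso K) H⟩

/-- A roof with K-flat apex between a strictly perfect approximation and the complex. -/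
theorem exists_roof {Y : Scheme.{u}} (S F : CochainComplex Y.Modules ℤ)
    (α : DerivedCategory.Q.obj S ⟶ DerivedCategory.Q.obj F) (n : ℤ) (hα : LocalD.HQisN α n) :
    ∃ (Q : CochainComplex Y.Modules ℤ) (t : Q ⟶ S) (ψ : Q ⟶ F),
      DCoh.IsKFlat Q ∧ DHA.PCohQis.IsQisN t n ∧ DHA.PCohQis.IsQisN ψ n := by
  obtain ⟨Z, s, hs, φ, hφ⟩ := DerivedCategory.right_fac α
  let t : (resY Y).obj Z ⟶ S := (resYπ Y).app Z ≫ s
  let ψ : (resY Y).obj Z ⟶ F := (resYπ Y).app Z ≫ φ
  have hsq : QuasiIso s := (DerivedCategory.isIso_Q_map_iff_quasiIso (C := Y.Modules) s).1 hs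
  have hπ := quasiIso_resYπ Z
  have ht : QuasiIso t := quasiIso_comp (hφ := hπ) (hφ' := hsq) ..
  have hit : IsIso (DerivedCategory.Q.map t) :=
    (DerivedCategory.isIso_Q_map_iff_quasiIso (C := Y.Modules) t).2 ht
  refine ⟨_, t, ψ, isKFlat_resY Z, ?_, ?_⟩
  · rw [DHA.PCohAPI.isQisN_iff]
    exact LocalD.hQisN_of_isIso (DerivedCategory.Q.map t) n
  · rw [DHA.PCohAPI.isQisN_iff]
    have e : DerivedCategory.Q.map ψ = DerivedCategory.Q.map t ≫ α := by simp [ψ, t, hφ]
    rw [e]
    exact (LocalD.hQisN_of_isIso (DerivedCategory.Q.map t) n).comp hα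

theorem isKFlat_resStalk {V U : Scheme.{u}} (h : U ⟶ V) [IsOpenImmersion h] (w : U)
    {K : CochainComplex V.Modules ℤ} (hK : DCoh.IsKFlat K) :
    DRing.KFlat.IsKFlat
      (((Scheme.Modules.restrictFunctor h ⋙ DerSch.stalkFunctor U w).mapHomologicalComplex
        (ComplexShape.up ℤ)).obj K) := by
  have h1 := BaseChange.isKFlat_extCx (h.stalkMap w).hom ((StalkCx.isKFlat_iff_stalk K).1 hK (h w))
  let e : (BaseChange.extCx (h.stalkMap w).hom).obj ((StalkCx.stCx (h w)).obj K) ≅
      ((Scheme.Modules.restrictFunctor h ⋙ DerSch.stalkFunctor U w).mapHomologicalComplex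
        (ComplexShape.up ℤ)).obj K :=
    HomologicalComplex.Hom.isoOfComponents (fun n => ((PCohD.StalkExt.stRes h w).app (K.X n)).symm)
      (fun i j _ => ((PCohD.StalkExt.stRes h w).inv.naturality (K.d i j)).symm)
  exact isKFlat_of_iso_ring e h1

theorem flat_resStalk {V U : Scheme.{u}} (h : U ⟶ V) [IsOpenImmersion h] (w : U) (M : V.Modules)
    (hM : Module.Flat (V.presheaf.stalk (h w)) ((DerSch.stalkFunctor V (h w)).obj M)) :
    Module.Flat (U.presheaf.stalk w)
      ((Scheme.Modules.restrictFunctor h ⋙ DerSch.stalkFunctor U w).obj M) := by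
  have h2 : Module.Flat (U.presheaf.stalk w)
      ((ModuleCat.extendScalars.{u, u, u} (h.stalkMap w).hom).obj ((DerSch.stalkFunctor V (h w)).obj M)) := by
    letI := (h.stalkMap w).hom.toAlgebra
    exact Module.Flat.baseChange _ _ _
  exact @Module.Flat.of_linearEquiv _ _ _ _ _ _ _ _ h2 ((PCohD.StalkExt.stRes h w).app M).toLinearEquiv

/-- Left exactness on the stalk at `x` gives left exactness on the stalks of a neighbourhood. -/
theorem exists_nhd (F : CochainComplex X.Modules ℤ) (hF : DCoh.IsKFlat F) (p : ℤ)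
    (hE : DCoh.IsPseudoCoherentD (p - 1) (DCoh.toD X F)) (x : X)
    [(tH ((StalkCx.stCx x).obj F) p).PreservesMonomorphisms] :
    ∃ U : X.Opens, x ∈ U ∧ ∀ w : (U : Scheme.{u}),
      (tH ((StalkCx.stCx w).obj ((DCoh.restrictCx U).obj F)) p).PreservesMonomorphisms ∧
      ∀ T : ShortComplex (ModuleCat.{u} ((U : Scheme.{u}).presheaf.stalk w)), T.ShortExact →
        (T.map (tH ((StalkCx.stCx w).obj ((DCoh.restrictCx U).obj F)) p)).Exact := by
  obtain ⟨V, hx, hV⟩ := hE x
  obtain ⟨S, α, hS, hiso, hepi⟩ := hV F ⟨Iso.refl _⟩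
  obtain ⟨Q, t, ψ, hQ, ht, hψ⟩ := exists_roof S ((DCoh.restrictCx V).obj F) α (p - 1) ⟨hiso, hepi⟩
  let v : (V : Scheme.{u}) := ⟨x, hx⟩
  let GC := (stV V v).mapHomologicalComplex (ComplexShape.up ℤ)
  obtain ⟨e⟩ := nonempty_roofIso (stV V v) t ψ p ht hψ
    (isKFlat_stV V v hQ)
    (isKFlat_stV V v (LocalD.isKFlat_of_isStrictlyPerfect hS))
    (isKFlat_stV V v (LocalD.isKFlat_restrict hF V))
    (C := (StalkCx.stCx (V.ι v)).obj F)
    (HomologicalComplex.Hom.isoOfComponents (fun n => (stVIso V v).app (F.X n))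
      fun i j _ => ((stVIso V v).hom.naturality (F.d i j)).symm)
  haveI : (tH ((StalkCx.stCx (V.ι v)).obj F) p).PreservesMonomorphisms :=
    inferInstanceAs (tH ((StalkCx.stCx x).obj F) p).PreservesMonomorphisms
  haveI : (tH (GC.obj S) p).PreservesMonomorphisms := Functor.PreservesMonomorphisms.of_iso e.symm
  haveI : Module.Flat (X.presheaf.stalk (V.ι v)) ((GC.obj S).X (p + 1)) :=
    flat_stV V v (LocalD.flat_of_isFinLocFree (hS.2 (p + 1)) v)
  haveI h1 := Conv.flat_prev (GC.obj S) p
  have hc : FlatMod.IsFlatAt (cokernel (S.d (p - 1) p)) v :=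
    Converse.flat_of_flat_stV V v (Module.Flat.of_linearEquiv
      (PreservesCokernel.iso (stV V v) (S.d (p - 1) p) ≪≫
        ModuleCat.cokernelIsoRangeQuotient ((GC.obj S).d (p - 1) p)).toLinearEquiv)
  haveI := PerfTri.Betti.isQuasicoherent_of_isFinLocFree (hS.2 (p - 1))
  haveI := PerfTri.Betti.isQuasicoherent_of_isFinLocFree (hS.2 p)
  have hfp : CohB1.IsFP (cokernel (S.d (p - 1) p)) := by
    have : SheafOfModules.IsFinitePresentation.{u} (R := (V : Scheme.{u}).ringCatSheaf) (S.X (p - 1)) :=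
      Props.QProj.isFP _ (hS.2 (p - 1))
    exact LimTop.isFP_cokernel inferInstance (Props.QProj.isFP _ (hS.2 p)) _
  obtain ⟨W, hW, hWlf⟩ := (S4652.result _ hfp v).1 hc
  have hflat : ∀ y ∈ W, Module.Flat ((V : Scheme.{u}).presheaf.stalk y)
      ((DerSch.stalkFunctor (V : Scheme.{u}) y).obj (cokernel (S.d (p - 1) p))) :=
    fun y hy => (S4652.result _ hfp y).2 ⟨W, hy, hWlf⟩
  let U : X.Opens := V.ι ''ᵁ W
  have hUV : U ≤ V := V.ι_image_le W
  have hU : ∀ w : (U : Scheme.{u}), X.homOfLE hUV w ∈ W := fun w => by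
    obtain ⟨y, hy, hyw⟩ := w.2
    have : X.homOfLE hUV w = y := Subtype.ext (by
      simpa [Scheme.homOfLE_apply] using hyw.symm)
    rw [this]; exact hy
  refine ⟨U, ⟨v, hW, rfl⟩, fun w => ?_⟩
  let h := X.homOfLE hUV
  let G := Scheme.Modules.restrictFunctor h ⋙ DerSch.stalkFunctor (U : Scheme.{u}) w
  let eR : Scheme.Modules.restrictFunctor V.ι ⋙ G ≅
      Scheme.Modules.restrictFunctor U.ι ⋙ DerSch.stalkFunctor (U : Scheme.{u}) w :=
    (Functor.associator _ _ _).symm ≪≫ Functor.isoWhiskerRight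
      ((Scheme.Modules.restrictFunctorComp h V.ι).symm ≪≫
        Scheme.Modules.restrictFunctorCongr (X.homOfLE_ι hUV)) _
  obtain ⟨e'⟩ := nonempty_roofIso G t ψ p ht hψ (isKFlat_resStalk h w hQ)
    (isKFlat_resStalk h w (LocalD.isKFlat_of_isStrictlyPerfect hS))
    (isKFlat_resStalk h w (LocalD.isKFlat_restrict hF V))
    (C := (StalkCx.stCx w).obj ((DCoh.restrictCx U).obj F))
    (HomologicalComplex.Hom.isoOfComponents (fun n => eR.app (F.X n))
      fun i j _ => (eR.hom.naturality (F.d i j)).symm)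
  let G' := (G.mapHomologicalComplex (ComplexShape.up ℤ)).obj S
  haveI hf1 : Module.Flat ((U : Scheme.{u}).presheaf.stalk w) (G'.X (p + 1)) :=
    flat_resStalk h w _ (LocalD.flat_of_isFinLocFree (hS.2 (p + 1)) _)
  haveI : Module.Flat _ (G.obj (cokernel (S.d (p - 1) p))) := flat_resStalk h w _ (hflat _ (hU w))
  haveI := flat_cokernel_of_iso (C := G') (PreservesCokernel.iso G (S.d (p - 1) p)).symm
  haveI := Ring.preservesMono G' p
  exact ⟨Functor.PreservesMonomorphisms.of_iso e',
    fun T hT => ShortComplex.exact_of_iso (T.mapNatIso e') (@Ring.exact_map _ _ G' p hf1 _ hT)⟩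

/-- Left exactness of the sheaf functor from left exactness on all stalks. -/
theorem preservesFiniteLimits_of_stalks (F : CochainComplex X.Modules ℤ) (p : ℤ)
    (h : ∀ z : X, (tH ((StalkCx.stCx z).obj F) p).PreservesMonomorphisms ∧
      ∀ T : ShortComplex (ModuleCat.{u} (X.presheaf.stalk z)), T.ShortExact →
        (T.map (tH ((StalkCx.stCx z).obj F) p)).Exact) :
    PreservesFiniteLimits (termCx F ⋙ HomologicalComplex.homologyFunctor X.Modules (ComplexShape.up ℤ) p) := by
  let T := termCx F ⋙ HomologicalComplex.homologyFunctor X.Modules (ComplexShape.up ℤ) p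
  let e₃ : ∀ z : X, T ⋙ DerSch.stalkFunctor X z ≅
      DerSch.stalkFunctor X z ⋙ tH ((StalkCx.stCx z).obj F) p := fun z =>
    Functor.associator _ _ _ ≪≫
      Functor.isoWhiskerLeft _ (MapHomology.cxIso (DerSch.stalkFunctor X z) p).symm ≪≫
      (Functor.associator _ _ _).symm ≪≫ Functor.isoWhiskerRight (stTermIso F z) _ ≪≫
      Functor.associator _ _ _
  refine (Functor.preservesFiniteLimits_iff_forall_exact_map_and_mono T).2 fun S hS => ⟨?_, ?_⟩
  · rw [ShortComplex.exact_iff_isZero_homology]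
    refine StalkCx.isZero_of_isZero_stalk fun z => ?_
    have h1 := (h z).2 _ (hS.map_of_exact (DerSch.stalkFunctor X z))
    have h2 : (S.map (T ⋙ DerSch.stalkFunctor X z)).Exact :=
      ShortComplex.exact_of_iso (S.mapNatIso (e₃ z).symm) h1
    exact ((ShortComplex.exact_iff_isZero_homology _).1 h2).of_iso
      ((S.map T).mapHomologyIso (DerSch.stalkFunctor X z)).symm
  · haveI := hS.mono_f
    refine StalkTensor.mono_of_stalk_injective _ fun z => ?_
    haveI := (h z).1
    let A := tH ((StalkCx.stCx z).obj F) p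
    have hs : Mono ((DerSch.stalkFunctor X z).map S.f) :=
      (hS.map_of_exact (DerSch.stalkFunctor X z)).mono_f
    have hA : Mono (A.map ((DerSch.stalkFunctor X z).map S.f)) :=
      @Functor.map_mono _ _ _ _ A (h z).1 _ _ _ hs
    have hinj := ((ModuleCat.mono_iff_injective _).1 hA).comp
      ((e₃ z).app S.X₁).toLinearEquiv.injective
    refine Function.Injective.of_comp (f := ((e₃ z).app S.X₂).toLinearEquiv) ?_
    intro a b hab
    apply hinj
    have hn := (e₃ z).hom.naturality S.f
    exact ((ConcreteCategory.congr_hom hn a).symm.trans hab).trans (ConcreteCategory.congr_hom hn b)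

end Groth.Agent.TensorExact.NhdLeft
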