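import Groth.Agent.TensorExact.NhdLeft

/-!
# Right exactness of `M ↦ H^p(M ⊗^L F)` spreads from a stalk to a neighbourhood
-/

set_option autoImplicit false
set_option linter.style.haveILetI false

universe u

open CategoryTheory CategoryTheory.Limits AlgebraicGeometry MonoidalCategory

attribute [local instance] HasDerivedCategory.standard

noncomputable section

namespace Groth.Agent.TensorExact.NhdRight

open Groth.Agent.KFlat Groth.Agent.KFlat.Pull Groth.Agent.TensorExact.Ring Groth.Agent.TensorExact.Sheaf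

variable {R : Type u} [CommRing R]

/-- A complex of projectives computing the same functors. -/
theorem exists_projective_tH {C C' : CochainComplex (ModuleCat.{u} R) ℤ} (π : C' ⟶ C) [QuasiIso π]
    (hC' : DRing.KFlat.IsKFlat C') [_root_.DRing.HasLTensorCx R C] :
    ∃ P : CochainComplex (ModuleCat.{u} R) ℤ, (∀ i, Module.Flat R (P.X i)) ∧
      ∀ q, Nonempty (tH P q ≅ tH C' q) ∧
        Nonempty (DerivedCategory.singleFunctor (ModuleCat.{u} R) 0 ⋙ _root_.DRing.LTensorCx R C ⋙
          DerivedCategory.homologyFunctor (ModuleCat.{u} R) q ≅ tH P q) := by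
  obtain ⟨P, s, hP, hproj, hs, -⟩ := DRing.KProjRes.exists_resolution C
  refine ⟨P, fun i => have := hproj i; inferInstance, fun q => ?_⟩
  obtain ⟨e₁⟩ := NhdLeft.nonempty_iso_tH s (DRing.KFlat.isKFlat_of_isKProjective P) q
  obtain ⟨e₂⟩ := NhdLeft.nonempty_iso_tH π hC' q
  exact ⟨⟨e₁.symm ≪≫ e₂⟩, ⟨e₁⟩⟩

/-- Right exactness at `p` gives left exactness at `p + 1`. -/
theorem preservesMono_next {C C' : CochainComplex (ModuleCat.{u} R) ℤ} (π : C' ⟶ C) [QuasiIso π]
    (hC' : DRing.KFlat.IsKFlat C') [_root_.DRing.HasLTensorCx R C] (p : ℤ)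
    (h : (DerivedCategory.singleFunctor (ModuleCat.{u} R) 0 ⋙ _root_.DRing.LTensorCx R C ⋙
          DerivedCategory.homologyFunctor (ModuleCat.{u} R) p).PreservesEpimorphisms) :
    (tH C' (p + 1)).PreservesMonomorphisms := by
  obtain ⟨P, hP, hiso⟩ := exists_projective_tH π hC'
  obtain ⟨-, ⟨e⟩⟩ := hiso p
  obtain ⟨⟨e'⟩, -⟩ := hiso (p + 1)
  haveI := h
  haveI : (tH P p).PreservesEpimorphisms := Functor.PreservesEpimorphisms.of_iso e
  haveI := hP (p + 1)
  have h1 := Conv.flat_next P p
  have h2 : Module.Flat R (P.X (p + 1) ⧸ LinearMap.range (P.d (p + 1 - 1) (p + 1)).hom) := by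
    rw [add_sub_cancel_right]; exact h1
  haveI := @Ring.preservesMono _ _ P (p + 1) h2
  exact Functor.PreservesMonomorphisms.of_iso e'

/-- Left exactness at `p + 1` gives right exactness at `p`. -/
theorem preservesEpi_prev (C : CochainComplex (ModuleCat.{u} R) ℤ) (hC : DRing.KFlat.IsKFlat C) (p : ℤ)
    [(tH C (p + 1)).PreservesMonomorphisms] :
    (tH C p).PreservesEpimorphisms ∧
      ∀ T : ShortComplex (ModuleCat.{u} R), T.ShortExact → (T.map (tH C p)).Exact := by
  haveI := DRing.LTensor.hasLTensorCx C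
  obtain ⟨P, hP, hiso⟩ := exists_projective_tH (𝟙 C) hC
  obtain ⟨⟨e⟩, -⟩ := hiso p
  obtain ⟨⟨e'⟩, -⟩ := hiso (p + 1)
  haveI : (tH P (p + 1)).PreservesMonomorphisms := Functor.PreservesMonomorphisms.of_iso e'.symm
  haveI := hP (p + 1 + 1)
  have h1 := Conv.flat_prev P (p + 1)
  have h2 : Module.Flat R (P.X (p + 1) ⧸ LinearMap.range (P.d p (p + 1)).hom) := by
    rw [add_sub_cancel_right] at h1; exact h1
  haveI := @Ring.preservesEpi _ _ P p h2
  exact ⟨Functor.PreservesEpimorphisms.of_iso e,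
    fun T hT => ShortComplex.exact_of_iso (T.mapNatIso e) (@Ring.exact_map _ _ P p (hP (p + 1)) _ hT)⟩

variable {X : Scheme.{u}}

/-- Right exactness of the sheaf functor from right exactness on all stalks. -/
theorem preservesFiniteColimits_of_stalks (F : CochainComplex X.Modules ℤ) (p : ℤ)
    (h : ∀ z : X, (tH ((StalkCx.stCx z).obj F) p).PreservesEpimorphisms ∧
      ∀ T : ShortComplex (ModuleCat.{u} (X.presheaf.stalk z)), T.ShortExact →
        (T.map (tH ((StalkCx.stCx z).obj F) p)).Exact) :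
    PreservesFiniteColimits (termCx F ⋙ HomologicalComplex.homologyFunctor X.Modules (ComplexShape.up ℤ) p) := by
  let T := termCx F ⋙ HomologicalComplex.homologyFunctor X.Modules (ComplexShape.up ℤ) p
  let e₃ : ∀ z : X, T ⋙ DerSch.stalkFunctor X z ≅
      DerSch.stalkFunctor X z ⋙ tH ((StalkCx.stCx z).obj F) p := fun z =>
    Functor.associator _ _ _ ≪≫
      Functor.isoWhiskerLeft _ (MapHomology.cxIso (DerSch.stalkFunctor X z) p).symm ≪≫
      (Functor.associator _ _ _).symm ≪≫ Functor.isoWhiskerRight (stTermIso F z) _ ≪≫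
      Functor.associator _ _ _
  refine (Functor.preservesFiniteColimits_iff_forall_exact_map_and_epi T).2 fun S hS => ⟨?_, ?_⟩
  · rw [ShortComplex.exact_iff_isZero_homology]
    refine StalkCx.isZero_of_isZero_stalk fun z => ?_
    have h1 := (h z).2 _ (hS.map_of_exact (DerSch.stalkFunctor X z))
    have h2 : (S.map (T ⋙ DerSch.stalkFunctor X z)).Exact :=
      ShortComplex.exact_of_iso (S.mapNatIso (e₃ z).symm) h1
    exact ((ShortComplex.exact_iff_isZero_homology _).1 h2).of_iso
      ((S.map T).mapHomologyIso (DerSch.stalkFunctor X z)).symm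
  · refine Preadditive.epi_of_isZero_cokernel _ (StalkCx.isZero_of_isZero_stalk fun z => ?_)
    let A := tH ((StalkCx.stCx z).obj F) p
    have hs : Epi ((DerSch.stalkFunctor X z).map S.g) :=
      (hS.map_of_exact (DerSch.stalkFunctor X z)).epi_g
    have hA : Epi (A.map ((DerSch.stalkFunctor X z).map S.g)) :=
      @Functor.map_epi _ _ _ _ A (h z).1 _ _ _ hs
    have hsur := ((e₃ z).app S.X₃).symm.toLinearEquiv.surjective.comp
      ((ModuleCat.epi_iff_surjective _).1 hA)
    have hT : Function.Surjective ((T ⋙ DerSch.stalkFunctor X z).map S.g).hom := by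
      intro y
      obtain ⟨a, ha⟩ := hsur y
      exact ⟨(e₃ z).inv.app S.X₂ a,
        (ConcreteCategory.congr_hom ((e₃ z).inv.naturality S.g) a).symm.trans ha⟩
    have hE : Epi ((DerSch.stalkFunctor X z).map (T.map S.g)) :=
      (ModuleCat.epi_iff_surjective ((T ⋙ DerSch.stalkFunctor X z).map S.g)).2 hT
    exact (@isZero_cokernel_of_epi _ _ _ _ _ ((DerSch.stalkFunctor X z).map (T.map S.g)) hE).of_iso
      (PreservesCokernel.iso (DerSch.stalkFunctor X z) (T.map S.g))

/-- Right exactness on the stalk at `x` gives right exactness on the stalks of a neighbourhood. -/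
theorem exists_nhd (F : CochainComplex X.Modules ℤ) (hF : DCoh.IsKFlat F) (p : ℤ)
    (hE : DCoh.IsPseudoCoherentD p (DCoh.toD X F)) (x : X)
    [(tH ((StalkCx.stCx x).obj F) (p + 1)).PreservesMonomorphisms] :
    ∃ U : X.Opens, x ∈ U ∧ ∀ w : (U : Scheme.{u}),
      (tH ((StalkCx.stCx w).obj ((DCoh.restrictCx U).obj F)) p).PreservesEpimorphisms ∧
      ∀ T : ShortComplex (ModuleCat.{u} ((U : Scheme.{u}).presheaf.stalk w)), T.ShortExact →
        (T.map (tH ((StalkCx.stCx w).obj ((DCoh.restrictCx U).obj F)) p)).Exact := by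
  obtain ⟨U, hx, hU⟩ := NhdLeft.exists_nhd F hF (p + 1) (by rwa [add_sub_cancel_right]) x
  refine ⟨U, hx, fun w => ?_⟩
  haveI := (hU w).1
  exact preservesEpi_prev _ ((StalkCx.isKFlat_iff_stalk _).1 (LocalD.isKFlat_restrict hF U) w) p

end Groth.Agent.TensorExact.NhdRight
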