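import Groth.Agent.DRing.SingleTensor
import Groth.Agent.DRing.Homology
import Groth.Agent.DHA.PCohQis
import Groth.Agent.DRing.Trunc
import Mathlib.Algebra.Homology.DerivedCategory.HomologySequence
import Mathlib.LinearAlgebra.TensorProduct.RightExactness

/-!
# Exactness of `N ↦ H^p(C ⊗ N)`

If the cokernels of `C^{p-1} → C^p` and `C^p → C^{p+1}` are flat, the functor is exact on both sides.
-/

set_option autoImplicit false

universe u

open CategoryTheory CategoryTheory.Limits MonoidalCategory
open scoped TensorProduct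

attribute [local instance] HasDerivedCategory.standard

noncomputable section

namespace Groth.Agent.TensorExact.Ring

variable {R : Type u} [CommRing R]

/-- `C ⊗ N` as a functor of `N`. -/
def tCx (C : CochainComplex (ModuleCat.{u} R) ℤ) :
    ModuleCat.{u} R ⥤ CochainComplex (ModuleCat.{u} R) ℤ where
  obj N := ((tensorRight N).mapHomologicalComplex (ComplexShape.up ℤ)).obj C
  map f := (NatTrans.mapHomologicalComplex ((tensoringRight (ModuleCat.{u} R)).map f)
    (ComplexShape.up ℤ)).app C
  map_id N := by ext n : 1; simp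
  map_comp f g := by ext n : 1; simp

/-- `N ↦ H^p(C ⊗ N)`. -/
abbrev tH (C : CochainComplex (ModuleCat.{u} R) ℤ) (p : ℤ) : ModuleCat.{u} R ⥤ ModuleCat.{u} R :=
  tCx C ⋙ HomologicalComplex.homologyFunctor _ _ p

instance (C : CochainComplex (ModuleCat.{u} R) ℤ) : (tCx C).Additive where
  map_add {M N f g} := by ext n : 1; exact MonoidalPreadditive.whiskerLeft_add f g

instance (C : CochainComplex (ModuleCat.{u} R) ℤ) (p : ℤ) : (tH C p).Additive where

/-- The functor is exact. -/
def Good (C : CochainComplex (ModuleCat.{u} R) ℤ) (p : ℤ) : Prop :=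
  ∀ S : ShortComplex (ModuleCat.{u} R), S.ShortExact → (S.map (tH C p)).ShortExact

variable {A B M' M : Type u} [AddCommGroup A] [Module R A] [AddCommGroup B] [Module R B]
  [AddCommGroup M'] [Module R M'] [AddCommGroup M] [Module R M]

theorem mem_range_of_lTensor (a : A →ₗ[R] B) [Module.Flat R (B ⧸ LinearMap.range a)]
    (f : M' →ₗ[R] M) (hf : Function.Injective f) (t : B ⊗[R] M')
    (ht : f.lTensor B t ∈ LinearMap.range (a.rTensor M)) :
    t ∈ LinearMap.range (a.rTensor M') := by
  have hex := rTensor_exact (Q := M') (LinearMap.exact_map_mkQ_range a) (Submodule.mkQ_surjective _)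
  refine LinearMap.mem_range.2 ((hex t).1 ?_)
  apply Module.Flat.lTensor_preserves_injective_linearMap (M := B ⧸ LinearMap.range a) f hf
  rw [map_zero]
  obtain ⟨w, hw⟩ := ht
  have key : f.lTensor (B ⧸ LinearMap.range a) ((LinearMap.range a).mkQ.rTensor M' t) =
      (LinearMap.range a).mkQ.rTensor M (f.lTensor B t) := by
    rw [← LinearMap.comp_apply, ← LinearMap.comp_apply, LinearMap.lTensor_comp_rTensor,
      LinearMap.rTensor_comp_lTensor]
  rw [key, ← hw]
  exact (rTensor_exact (Q := M) (LinearMap.exact_map_mkQ_range a) (Submodule.mkQ_surjective _)).apply_apply_eq_zero w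

variable (C : CochainComplex (ModuleCat.{u} R) ℤ) (p : ℤ)

theorem preservesMono [Module.Flat R (C.X p ⧸ LinearMap.range (C.d (p - 1) p).hom)] :
    (tH C p).PreservesMonomorphisms where
  preserves {N' N} f _ := by
    have hf : Function.Injective f.hom := (ModuleCat.mono_iff_injective f).1 inferInstance
    refine (ModuleCat.mono_iff_injective _).2 ?_
    refine (DRing.Homology.homologyMap_injective_iff ((tCx C).map f) p (p - 1) (by omega)).2 ?_
    intro e w _ hew
    obtain ⟨e', he'⟩ := mem_range_of_lTensor (C.d (p - 1) p).hom f.hom hf e ⟨w, hew.symm⟩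
    exact ⟨e', he'⟩

theorem preservesEpi [Module.Flat R (C.X (p + 1) ⧸ LinearMap.range (C.d p (p + 1)).hom)] :
    (tH C p).PreservesEpimorphisms where
  preserves {N N''} g _ := by
    have hg : Function.Surjective g.hom := (ModuleCat.epi_iff_surjective g).1 inferInstance
    refine (ModuleCat.epi_iff_surjective _).2 ?_
    refine (DRing.Homology.homologyMap_surjective_iff ((tCx C).map g) p (p - 1) (by omega)).2 ?_
    intro z hz
    obtain ⟨t, ht⟩ := LinearMap.lTensor_surjective (C.X p) hg z
    have h0 : g.hom.lTensor (C.X (p + 1)) ((C.d p (p + 1)).hom.rTensor N t) = 0 := by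
      rw [← LinearMap.comp_apply, LinearMap.lTensor_comp_rTensor, ← LinearMap.rTensor_comp_lTensor,
        LinearMap.comp_apply, ht]
      exact hz
    obtain ⟨u, hu⟩ :=
      ((lTensor_exact (C.X (p + 1)) (LinearMap.exact_subtype_ker_map g.hom) hg) _).1 h0
    obtain ⟨v, hv⟩ := mem_range_of_lTensor (C.d p (p + 1)).hom (LinearMap.ker g.hom).subtype
      Subtype.val_injective u ⟨t, hu.symm⟩
    refine ⟨(t - (LinearMap.ker g.hom).subtype.lTensor (C.X p) v : C.X p ⊗[R] N), 0, ?_, ?_⟩
    · show (C.d p (p + 1)).hom.rTensor N _ = 0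
      rw [map_sub, ← hu, ← hv, sub_eq_zero, ← LinearMap.comp_apply, ← LinearMap.comp_apply,
        LinearMap.rTensor_comp_lTensor, LinearMap.lTensor_comp_rTensor]
    · rw [map_zero, add_zero]
      show g.hom.lTensor (C.X p) _ = z
      have h0 : g.hom ∘ₗ (LinearMap.ker g.hom).subtype = 0 := LinearMap.ext fun x => x.2
      rw [map_sub, ht, ← LinearMap.lTensor_comp_apply, h0, LinearMap.lTensor_zero, LinearMap.zero_apply]
      exact sub_zero _

theorem exact_map [Module.Flat R (C.X (p + 1))]
    {S : ShortComplex (ModuleCat.{u} R)} (hS : S.ShortExact) : (S.map (tH C p)).Exact := by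
  have hg : Function.Surjective S.g.hom := hS.moduleCat_surjective_g
  have hf : Function.Injective S.f.hom := hS.moduleCat_injective_f
  have hfg : Function.Exact S.f.hom S.g.hom := (ShortComplex.ShortExact.moduleCat_exact_iff_function_exact S).1 hS.exact
  rw [ShortComplex.moduleCat_exact_iff]
  intro x hx
  obtain ⟨z, hz, rfl⟩ := DRing.Homology.cls_surjective x
  change (HomologicalComplex.homologyMap ((tCx C).map S.g) p).hom (DRing.Homology.cls z hz) = 0 at hx
  rw [DRing.Homology.homologyMap_cls, DRing.Homology.cls_eq_zero_iff (p - 1) (by omega)] at hx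
  obtain ⟨w, hw⟩ := hx
  obtain ⟨w', hw'⟩ := LinearMap.lTensor_surjective (C.X (p - 1)) hg w
  have hgd : S.g.hom.lTensor (C.X p) ((C.d (p - 1) p).hom.rTensor S.X₂ w') = S.g.hom.lTensor (C.X p) z := by
    rw [← LinearMap.comp_apply, LinearMap.lTensor_comp_rTensor, ← LinearMap.rTensor_comp_lTensor,
      LinearMap.comp_apply, hw']
    exact hw
  obtain ⟨t, ht⟩ := ((lTensor_exact (C.X p) hfg hg) _).1
    ((map_sub (S.g.hom.lTensor (C.X p)) z _).trans (sub_eq_zero.2 hgd.symm))
  have hd : DRing.Homology.IsCyc ((tCx C).obj S.X₂) p ((C.d (p - 1) p).hom.rTensor S.X₂ w') :=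
    DRing.Homology.isCyc_d (K := (tCx C).obj S.X₂) (p - 1) p w'
  have ht0 : DRing.Homology.IsCyc ((tCx C).obj S.X₁) p t := by
    apply Module.Flat.lTensor_preserves_injective_linearMap (M := C.X (p + 1)) S.f.hom hf
    refine Eq.trans ?_ (map_zero _).symm
    refine Eq.trans ?_ (hz.sub hd)
    exact (DRing.Homology.hom_d ((tCx C).map S.f) p (p + 1) t).symm.trans (congrArg _ ht)
  refine ⟨DRing.Homology.cls (K := (tCx C).obj S.X₁) t ht0, ?_⟩
  refine (DRing.Homology.homologyMap_cls ((tCx C).map S.f) ht0).trans ?_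
  rw [DRing.Homology.cls_eq_iff (p - 1) (by omega)]
  refine ⟨-w', (map_neg _ _).trans ?_⟩
  refine Eq.trans ?_ (congrArg (· - z) ht).symm
  exact (sub_sub_cancel_left z _).symm

theorem good_of_flat [Module.Flat R (C.X p ⧸ LinearMap.range (C.d (p - 1) p).hom)]
    [Module.Flat R (C.X (p + 1) ⧸ LinearMap.range (C.d p (p + 1)).hom)] [Module.Flat R (C.X (p + 1))] :
    Good C p := fun S hS => by
  have := preservesMono C p
  have := preservesEpi C p
  have := hS.mono_f
  have := hS.epi_g
  exact { exact := exact_map C p hS, mono_f := (tH C p).map_mono S.f, epi_g := (tH C p).map_epi S.g }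

variable {C p}

theorem good_of_natIso {C' : CochainComplex (ModuleCat.{u} R) ℤ} (e : tH C p ≅ tH C' p) (h : Good C p) :
    Good C' p := fun S hS => ShortComplex.shortExact_of_iso (S.mapNatIso e) (h S hS)

/-- The natural transformation induced by a map of complexes. -/
def tHMap {C' : CochainComplex (ModuleCat.{u} R) ℤ} (ψ : C ⟶ C') : tH C p ⟶ tH C' p where
  app N := HomologicalComplex.homologyMap
    (((tensorRight N).mapHomologicalComplex (ComplexShape.up ℤ)).map ψ) p
  naturality N N' f := by
    refine (HomologicalComplex.homologyMap_comp _ _ p).symm.trans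
      (Eq.trans ?_ (HomologicalComplex.homologyMap_comp _ _ p))
    congr 1
    exact ((NatTrans.mapHomologicalComplex ((tensoringRight (ModuleCat.{u} R)).map f)
      (ComplexShape.up ℤ)).naturality ψ).symm

theorem isIso_homologyMap_of_cone {K L : CochainComplex (ModuleCat.{u} R) ℤ} (ψ : K ⟶ L) (n i : ℤ)
    (h : ∀ i, n ≤ i → IsZero ((CochainComplex.mappingCone ψ).homology i)) (hi : n < i) :
    IsIso (HomologicalComplex.homologyMap ψ i) := by
  let T := DerivedCategory.Q.mapTriangle.obj (CochainComplex.mappingCone.triangle ψ)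
  have hT : T ∈ Pretriangulated.distinguishedTriangles := DerivedCategory.mappingCone_triangle_distinguished ψ
  let H := DerivedCategory.homologyFunctor (ModuleCat.{u} R)
  have hz : ∀ j, n ≤ j → IsZero ((H j).obj T.obj₃) := fun j hj =>
    (h j hj).of_iso ((DerivedCategory.homologyFunctorFactors (ModuleCat.{u} R) j).app _)
  have : Epi ((H i).map T.mor₁) :=
    (DerivedCategory.HomologySequence.epi_homologyMap_mor₁_iff T hT i).2 ((hz i hi.le).eq_of_tgt _ _)
  have : Mono ((H i).map T.mor₁) :=
    (DerivedCategory.HomologySequence.mono_homologyMap_mor₁_iff T hT (i - 1) i (by omega)).2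
      ((hz (i - 1) (by omega)).eq_of_src _ _)
  have h1 : IsIso ((H i).map T.mor₁) := isIso_of_mono_of_epi _
  exact (NatIso.isIso_map_iff (DerivedCategory.homologyFunctorFactors (ModuleCat.{u} R) i) ψ).1 h1

/-- Tensoring preserves `n`-quasi-isomorphisms of K-flat complexes, above `n`. -/
theorem isIso_tHMap {Q C' : CochainComplex (ModuleCat.{u} R) ℤ} (ψ : Q ⟶ C') {n : ℤ}
    (hQ : DRing.KFlat.IsKFlat Q) (hC : DRing.KFlat.IsKFlat C') (h : DHA.PCohQis.IsQisN ψ n)
    (hp : n < p) : IsIso (tHMap (p := p) ψ) := by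
  have hK := (DRing.KFlat.mappingCone_two_of_three ψ).1 hQ hC
  obtain ⟨P, π, hP, hproj, hπ⟩ := DRing.Trunc.exists_projRes (CochainComplex.mappingCone ψ) (n - 1)
    (fun i hi => DHA.PCohQis.exactAt_cone h i (by omega))
  have hPk : DRing.KFlat.IsKFlat P :=
    DRing.KFlat.isKFlat_of_boundedAbove_flat P (n - 1) hP fun i => have := hproj i; inferInstance
  have : ∀ N, IsIso ((tHMap (p := p) ψ).app N) := fun N => by
    have := DRing.SingleTensor.quasiIso_tensorRight N π hPk hK
    refine isIso_homologyMap_of_cone _ n p (fun i hi => ?_) hp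
    have := this.quasiIsoAt i
    refine IsZero.of_iso ?_ (((HomologicalComplex.homologyFunctor _ _ i).mapIso
      (CochainComplex.mappingCone.mapHomologicalComplexIso ψ (tensorRight N))).symm ≪≫
      (isoOfQuasiIsoAt (((tensorRight N).mapHomologicalComplex (ComplexShape.up ℤ)).map π) i).symm)
    exact ShortComplex.isZero_homology_of_isZero_X₂ _ ((tensorRight N).map_isZero (hP i (by omega)))
  exact NatIso.isIso_of_isIso_app _

end Groth.Agent.TensorExact.Ring
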